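import Cfsg.Agent.H532.EP.Two
import Cfsg.Agent.H284.EPO.Fam
import Cfsg.Agent.H765.EPS.HTwo

/-!
# S3499, VII13-PSp: `OwnPSp` (helper532)
-/

set_option autoImplicit false

namespace Cfsg.Agent.H532.EP

/-- `OwnPSp` from 2-generation (`TwoGen`) and `Sp_8(2) < Ω_16^+(2)` (`HTwo`). -/
theorem ownPSp_of_two (hg : Cfsg.Agent.H59.EP.TwoGen.{0}) (h16 : HTwo) : Cfsg.Agent.H419.EP.OwnPSp :=
  Cfsg.Agent.H284.Own.ownPSp_of fun b _ _ _ _ hd hK hc e => by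
    obtain ⟨e⟩ := e
    exact own_psp_two hg h16 b hK hd hc e

/-- **`OwnPSp`** from 2-generation. -/
theorem ownPSp (hg : Cfsg.Agent.H59.EP.TwoGen.{0}) : Cfsg.Agent.H419.EP.OwnPSp :=
  ownPSp_of_two hg Cfsg.Agent.H765.EPS.hTwo

end Cfsg.Agent.H532.EP
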