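import Cfsg.Agent.H532.EP.Cyc

/-!
# S3499, VII13-PSp: the dimensions over the field with two elements (helper532)

* `no_two`, `Setup.hyp`, `Setup.exists_perm`, `Setup.decomp`;
* **`Setup.bound3`** : `l = 3`: the dimension is not 13;
* **`Setup.bound4`** : `l = 4`: the dimension is 16 or at least 24;
* **`Setup.dims`** : all ranks.
-/

set_option autoImplicit false
set_option linter.unusedSectionVars false
set_option linter.style.haveILetI false

namespace Cfsg.Agent.H532.EP

open CoxeterSystem Cfsg.Agent.ChevalleyStructure.CoxeterGeom Cfsg.Agent.Tits.Roots Cfsg.Agent.Tits.Core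
  Cfsg.Agent.Nodes.Reps Cfsg.Agent.Nodes.BNOf Cfsg.Agent.Nodes.Bruhat Cfsg.Agent.Nodes.RGDLib
open Cfsg.Agent.Nodes Cfsg.Agent.Nodes.WittRoot Cfsg.Agent.Nodes.WittAll
open Cfsg.Agent.Nodes.TypeC (isCartan wt ee nx ng Ok)
open Cfsg.Agent.TitsThree Cfsg.Agent.TitsThree.Siegel Cfsg.Agent.TitsThree.WittFrame Cfsg.Agent.TitsThree.FrameCN
open Cfsg.Agent.H915.LD Cfsg.Agent.H911 Cfsg.Agent.H905.Md Cfsg.Agent.H925.Nat Cfsg.Agent.Nodes.RGDLift
open Cfsg.Agent.H905.DC (co fire cf co_one co_mul_simple co_mul_left co_wordProd)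
open Cfsg.Agent.H156.Ppd (Cov lrep)
open Cfsg.Agent.H948.Ppd (TB XB NB JB dB identify_B)
open Cfsg.Agent.Omega.CR Cfsg.Agent.Omega.FOne.Lift.Sd
open Cfsg.Agent.H911.SLTwo (U Lo hh ww U_pow U_zero Lo_zero)
open Cfsg Cfsg.Geo
open scoped MatrixGroups Matrix

universe u v w

section abs

variable {k V : Type*} [Field k] [AddCommGroup V] [Module k V] {n : ℕ} {r t : Fin n → Module.End k V} {ω : k}

/-- If no weight with two nontrivial coordinates occurs then `(r a - 1) (r b - 1) = 0`. -/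
theorem no_two [FiniteDimensional k V] (H : Hyp r t ω) {m : ℕ → ℕ}
    (hm : ∀ S, Module.finrank k (Us r ω Finset.univ S) = m S.card) (h0 : ∀ j, 2 ≤ j → j ≤ n → m j = 0)
    {a b : Fin n} (hab : a ≠ b) (v : V) : r a (r b v - v) = r b v - v := by
  classical
  set L : Submodule k V := LinearMap.ker ((r a - 1) * (r b - 1)) with hLd
  have hL : ∀ v, v ∈ L ↔ r a (r b v - v) = r b v - v := fun v => by
    rw [hLd, LinearMap.mem_ker]
    change r a (r b v - v) - (r b v - v) = 0 ↔ _
    exact sub_eq_zero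
  have hU : ∀ S, Us r ω Finset.univ S ≤ L := by
    intro S v hv
    rcases Nat.lt_or_ge S.card 2 with h2 | h2
    · rw [hL]
      by_cases hb : b ∈ S
      · have ha : a ∉ S := fun ha => by
          have h3 : ({a, b} : Finset (Fin n)) ⊆ S := by
            intro x hx
            rcases Finset.mem_insert.1 hx with rfl | hx
            · exact ha
            · rw [Finset.mem_singleton] at hx
              rwa [hx]
          have h4 := Finset.card_le_card h3
          rw [Finset.card_pair hab] at h4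
          omega
        have h5 := hv a (Finset.mem_univ a)
        have h6 := hv b (Finset.mem_univ b)
        rw [if_neg ha, one_smul] at h5
        rw [if_pos hb] at h6
        rw [h6, map_sub, map_smul, h5]
      · have h6 := hv b (Finset.mem_univ b)
        rw [if_neg hb, one_smul] at h6
        rw [h6, sub_self, map_zero]
    · have h3 := hm S
      rw [h0 _ h2 (by simpa using Finset.card_le_univ S)] at h3
      have h4 : Us r ω Finset.univ S = ⊥ := Submodule.finrank_eq_zero.1 h3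
      rw [h4, Submodule.mem_bot] at hv
      rw [hv]
      exact L.zero_mem
  have h1 := total H (L := L) (fun j v hv => by
      rw [hL] at hv ⊢
      rw [H.comm b j, ← map_sub, H.comm a j, hv]) (fun j v hv => by
      rw [hL] at hv ⊢
      by_cases hja : a = j
      · subst hja
        rw [H.tcomm b a v (Ne.symm hab), ← map_sub, H.tinv, hv, hv]
      · by_cases hjb : b = j
        · subst hjb
          have e1 : r b (r b v) - v = r b (r b v - v) + (r b v - v) := by
            rw [map_sub]; abel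
          rw [H.tinv, ← map_sub, H.tcomm a b _ hab, e1, map_add, H.comm a b, hv]
        · rw [H.tcomm b j v hjb, ← map_sub, H.tcomm a j _ hja, hv]) Finset.univ
  have h2 := total H (L := ⊤) (fun _ _ _ => trivial) (fun _ _ _ => trivial) Finset.univ
  have h3 : Module.finrank k L = Module.finrank k (⊤ : Submodule k V) := by
    rw [h1, h2]
    refine Finset.sum_congr rfl fun S _ => ?_
    rw [top_inf_eq, inf_eq_right.2 (hU S)]
  have h4 : L = ⊤ := Submodule.eq_of_le_of_finrank_eq le_top h3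
  exact (hL v).1 (h4 ▸ trivial)

end abs

namespace Setup

variable {F : Type u} [Field F] [Finite F] {ι : Type} [Fintype ι] [DecidableEq ι] {P : Subgroup (GL ι F)}
  {K : Type} [Field K] [Finite K] {p : ℕ} [hp : Fact p.Prime] [hFp : CharP F p] [hKp : CharP K p] {l : ℕ}
  {Y : Type w} [Group Y] [Finite Y] {f : Y →* (KInstSp.model l K).I} {φ : Y →* GL ι F} {n₁ : Fin l → Y}
  (s : Setup l K p P f φ n₁) {σ : Fin l → SL(2, K) →* Y} (hσ : IsSig f σ)
include s hσ

/-- **the operators** -/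
theorem hyp (h2 : p = 2) {ω : AlgebraicClosure F} (hω : ω ^ 2 + ω + 1 = 0) :
    Hyp (fun i => lin (acRep φ) (σ i st)) (fun i => lin (acRep φ) (σ i (U 1))) ω := by
  have hK2 : (2 : K) = 0 := by
    have := CharP.cast_eq_zero K p
    rw [h2] at this
    exact_mod_cast this
  have hchar : CharP (AlgebraicClosure F) p := charP_of_injective_algebraMap (algebraMap F _).injective p
  have hF2 : (2 : AlgebraicClosure F) = 0 := by
    have := CharP.cast_eq_zero (AlgebraicClosure F) p
    rw [h2] at this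
    exact_mod_cast this
  set ρ := lin (acRep φ) with hρ
  refine ⟨fun i v => ?_, fun i j v => ?_, fun i j v hij => ?_, fun i v => ?_, fun i => ?_, hω, ?_⟩
  · rw [← rho_mul, ← rho_mul, ← map_mul, ← map_mul, mul_assoc, st_cube, map_one, map_one]
    rfl
  · by_cases hij : i = j
    · rw [hij]
    · rw [← rho_mul, ← rho_mul, s.comm hσ hij]
  · rw [← rho_mul, ← rho_mul, s.comm hσ hij]
  · rw [← rho_mul, ← rho_mul, ← rho_mul, ← map_mul, ← map_mul, ← map_mul, st_U hK2, mul_assoc]
  · intro x y hxy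
    have h3 : ∀ v, ρ (σ i (U (-1))) (ρ (σ i (U 1)) v) = v := by
      intro v
      rw [← rho_mul, ← map_mul, H911.SLTwo.U_mul, neg_add_cancel, U_zero, map_one, map_one]
      rfl
    rw [← h3 x, ← h3 y]
    exact congrArg _ hxy
  · intro h3
    have : (1 : AlgebraicClosure F) = 0 := by linear_combination h3 - hF2
    exact one_ne_zero this

/-- the permutations of the planes -/
theorem exists_perm (π : Equiv.Perm (Fin l)) : ∃ y : Y, ∀ (i : Fin l) (x : SL(2, K)),
    y * σ i x = σ (π i) x * y := by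
  rcases Nat.eq_zero_or_pos l with h0 | h0
  · subst h0
    exact ⟨1, fun i => i.elim0⟩
  obtain ⟨n, rfl⟩ : ∃ n, l = n + 1 := ⟨l - 1, by omega⟩
  have h1 : π ∈ Submonoid.closure (Set.range fun i : Fin n => Equiv.swap i.castSucc i.succ) := by
    rw [Equiv.Perm.mclosure_swap_castSucc_succ]
    exact Submonoid.mem_top _
  induction h1 using Submonoid.closure_induction with
  | mem π hπ =>
    obtain ⟨k, rfl⟩ := hπ
    refine ⟨n₁ k.castSucc, fun i x => ?_⟩
    have hk : ((k.castSucc : Fin (n + 1)) : ℕ) + 1 < n + 1 := by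
      have := k.2
      rw [Fin.val_castSucc]
      omega
    have e : (⟨(k.castSucc : Fin (n + 1)) + 1, hk⟩ : Fin (n + 1)) = k.succ := rfl
    have h2 := s.swap_down hσ hk x
    have h3 := s.swap_up hσ hk x
    rw [e] at h2 h3
    change n₁ k.castSucc * σ i x = σ (Equiv.swap k.castSucc k.succ i) x * n₁ k.castSucc
    rw [← mul_inv_eq_iff_eq_mul]
    by_cases hi : i = k.castSucc
    · subst hi
      rw [Equiv.swap_apply_left, h3]
    · by_cases hi' : i = k.succ
      · subst hi'
        rw [Equiv.swap_apply_right, h2]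
      · rw [Equiv.swap_apply_of_ne_of_ne hi hi']
        exact s.swap_fix hσ hk hi (fun h => hi' (Fin.ext h)) x
  | one => exact ⟨1, fun i x => by rw [one_mul, mul_one]; rfl⟩
  | mul π π' _ _ ih ih' =>
    obtain ⟨y, hy⟩ := ih
    obtain ⟨y', hy'⟩ := ih'
    refine ⟨y * y', fun i x => ?_⟩
    rw [mul_assoc, hy', ← mul_assoc, hy, mul_assoc]
    rfl

/-- **the decomposition** -/
theorem decomp (h2 : p = 2) {ω : AlgebraicClosure F} (hω : ω ^ 2 + ω + 1 = 0) :
    ∃ m : ℕ → ℕ, (∀ S, Module.finrank (AlgebraicClosure F)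
      (Us (fun i => lin (acRep φ) (σ i st)) ω Finset.univ S) = m S.card) ∧
      Fintype.card ι = ∑ j ∈ Finset.range (l + 1), l.choose j * (2 ^ j * m j) := by
  classical
  have H := s.hyp hσ h2 hω
  set ρ := lin (acRep φ) with hρ
  obtain ⟨m, h3, h4⟩ := total_top H (fun S S' hS => by
    obtain ⟨e⟩ : Nonempty ({x // x ∈ S} ≃ {x // x ∈ S'}) := ⟨Finset.equivOfCardEq hS⟩
    obtain ⟨y, hy⟩ := s.exists_perm hσ e.extendSubtype
    have hyi : Function.Injective (ρ y) := by
      intro a b hab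
      have h5 : ∀ v, ρ y⁻¹ (ρ y v) = v := fun v => by
        rw [← rho_mul, inv_mul_cancel, map_one]; rfl
      rw [← h5 a, ← h5 b]
      exact congrArg _ hab
    refine finrank_le_of_maps hyi fun v hv j _ => ?_
    have h6 := hy (e.extendSubtype.symm j) st
    rw [Equiv.apply_symm_apply] at h6
    change ρ (σ j st) (ρ y v) = _
    rw [← rho_mul, ← h6, rho_mul]
    have h7 := hv (e.extendSubtype.symm j) (Finset.mem_univ _)
    change ρ (σ _ st) v = _ at h7
    rw [h7, map_smul]
    congr 1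
    have h8 : e.extendSubtype.symm j ∈ S ↔ j ∈ S' := by
      constructor
      · intro h9
        have := e.extendSubtype_mem _ h9
        rwa [Equiv.apply_symm_apply] at this
      · intro h9
        by_contra h10
        have := e.extendSubtype_not_mem _ h10
        rw [Equiv.apply_symm_apply] at this
        exact this h9
    simp only [h8])
  refine ⟨m, h3, ?_⟩
  rw [Module.finrank_fintype_fun_eq_card] at h4
  exact h4

/-- if `i ∉ J` and the words move the functional `i` then a weight with two nontrivial coordinates occurs -/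
theorem exists_two (h2 : p = 2) {ω : AlgebraicClosure F} (hω : ω ^ 2 + ω + 1 = 0) {m : ℕ → ℕ}
    (hm : ∀ S, Module.finrank (AlgebraicClosure F)
      (Us (fun i => lin (acRep φ) (σ i st)) ω Finset.univ S) = m S.card) {a b : Fin l} (hab : a ≠ b)
    {ωa ωb : List (Fin l)}
    (hRa : Rp (CoxeterMatrix.B l).toCoxeterSystem s.C.rgd.nsys
      ((CoxeterMatrix.B l).toCoxeterSystem.wordProd ωa) (σ a ww))
    (hRb : Rp (CoxeterMatrix.B l).toCoxeterSystem s.C.rgd.nsys
      ((CoxeterMatrix.B l).toCoxeterSystem.wordProd ωb) (σ b ww))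
    {i : Fin l} (hi : i ∉ JB (KInstSp.model l K) p f φ) (ha : cf (TypeC.A l) i ωa ≠ cf (TypeC.A l) i [])
    (hb : cf (TypeC.A l) i ωb ≠ cf (TypeC.A l) i []) (hc : cf (TypeC.A l) i (ωa ++ ωb) ≠ cf (TypeC.A l) i []) :
    ∃ j, 2 ≤ j ∧ j ≤ l ∧ m j ≠ 0 := by
  by_contra hcon
  push Not at hcon
  obtain ⟨v, hv⟩ := s.claim1 hσ hab hRa hRb hi ha hb hc
  exact hv (no_two (s.hyp hσ h2 hω) hm hcon hab v)

/-- if only the trivial and the full weight occur, the trivial one does not -/
theorem zero_of_full (hl : 3 ≤ l) (h2 : p = 2) {ω : AlgebraicClosure F} (hω : ω ^ 2 + ω + 1 = 0) {m : ℕ → ℕ}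
    (hm : ∀ S, Module.finrank (AlgebraicClosure F)
      (Us (fun i => lin (acRep φ) (σ i st)) ω Finset.univ S) = m S.card)
    (h0 : ∀ j, 0 < j → j < l → m j = 0) (h1 : m l ≠ 0) : m 0 = 0 := by
  classical
  have H := s.hyp hσ h2 hω
  set ρ := lin (acRep φ) with hρ
  set L := Us (fun i => ρ (σ i st)) ω Finset.univ (∅ : Finset (Fin l)) with hLd
  have hL : ∀ (i : Fin l) (v : ι → AlgebraicClosure F), v ∈ L ↔ ρ (σ i st) v = v := by
    intro i v
    constructor
    · intro hv
      have h3 := hv i (Finset.mem_univ i)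
      rw [if_neg (Finset.notMem_empty i), one_smul] at h3
      exact h3
    · exact ker_eq H hm h0 i
  rcases s.claim2 hσ hl hL with h3 | h3
  · have h4 := hm ∅
    rw [Finset.card_empty] at h4
    rw [← h4, ← hLd, h3, finrank_bot]
  · exfalso
    have h4 := hm Finset.univ
    rw [Finset.card_univ, Fintype.card_fin] at h4
    apply h1
    rw [← h4]
    have h5 : Us (fun i => ρ (σ i st)) ω Finset.univ (Finset.univ : Finset (Fin l)) = ⊥ := by
      rw [eq_bot_iff]
      intro v hv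
      have i : Fin l := ⟨0, by omega⟩
      have h6 := hv i (Finset.mem_univ i)
      rw [if_pos (Finset.mem_univ i)] at h6
      have h7 : ρ (σ i st) v = v := (hL i v).1 (h3 ▸ trivial)
      change ρ (σ i st) v = _ at h6
      rw [h7] at h6
      have h8 : (ω - 1) • v = 0 := by rw [sub_smul, ← h6, one_smul, sub_self]
      exact (smul_eq_zero.1 h8).resolve_left (sub_ne_zero.2 (om1 hω H.ne))
    rw [h5, finrank_bot]

end Setup

theorem exists_om (k : Type*) [Field k] [IsAlgClosed k] : ∃ ω : k, ω ^ 2 + ω + 1 = 0 := by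
  have h : (Polynomial.X ^ 2 + Polynomial.X + 1 : Polynomial k).degree ≠ 0 := by
    have : (Polynomial.X ^ 2 + Polynomial.X + 1 : Polynomial k).degree = 2 := by compute_degree!
    rw [this]
    decide
  obtain ⟨ω, hω⟩ := IsAlgClosed.exists_root _ h
  exact ⟨ω, by simpa [Polynomial.IsRoot] using hω⟩

theorem cf3 : ∀ i : Fin 3, 1 ≤ (i : ℕ) → cf (TypeC.A 3) i [0, 1, 2, 1, 0] ≠ cf (TypeC.A 3) i [] ∧
    cf (TypeC.A 3) i [1, 2, 1] ≠ cf (TypeC.A 3) i [] ∧
    cf (TypeC.A 3) i ([0, 1, 2, 1, 0] ++ [1, 2, 1]) ≠ cf (TypeC.A 3) i [] := by decide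

theorem cf4 : ∀ i : Fin 4, 1 ≤ (i : ℕ) → cf (TypeC.A 4) i [0, 1, 2, 3, 2, 1, 0] ≠ cf (TypeC.A 4) i [] ∧
    cf (TypeC.A 4) i [1, 2, 3, 2, 1] ≠ cf (TypeC.A 4) i [] ∧
    cf (TypeC.A 4) i ([0, 1, 2, 3, 2, 1, 0] ++ [1, 2, 3, 2, 1]) ≠ cf (TypeC.A 4) i [] := by decide

section three

variable {F : Type u} [Field F] [Finite F] {ι : Type} [Fintype ι] [DecidableEq ι] {P : Subgroup (GL ι F)}
  {K : Type} [Field K] [Finite K] {p : ℕ} [hp : Fact p.Prime] [hFp : CharP F p] [hKp : CharP K p]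
  {Y : Type w} [Group Y] [Finite Y] {f : Y →* (KInstSp.model 3 K).I} {φ : Y →* GL ι F} {n₁ : Fin 3 → Y}

/-- **`l = 3`.** -/
theorem Setup.bound3 (s : Setup 3 K p P f φ n₁) (h2 : p = 2) (hn : Fintype.card ι = 13) {i : Fin 3}
    (hi1 : 1 ≤ (i : ℕ)) (hi : i ∉ JB (KInstSp.model 3 K) p f φ) : False := by
  classical
  have hK2 : (2 : K) = 0 := by
    have := CharP.cast_eq_zero K p
    rw [h2] at this
    exact_mod_cast this
  obtain ⟨σ, hσ⟩ := s.exists_sig
  obtain ⟨ω, hω⟩ := exists_om (AlgebraicClosure F)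
  obtain ⟨m, hm, hd⟩ := s.decomp hσ h2 hω
  have H := s.hyp hσ h2 hω
  obtain ⟨g1, g2, g3⟩ := cf3 i hi1
  have R2 := s.rp_last hσ (i := 2) (by decide)
  rw [← CoxeterSystem.wordProd_singleton] at R2
  have R1 := s.rp_step hσ (k := 1) (by decide) R2
  have R0 := s.rp_step hσ (k := 0) (by decide) R1
  obtain ⟨j, hj2, hj3, hj⟩ := s.exists_two hσ h2 hω hm (by decide : (0 : Fin 3) ≠ 1) R0 R1 hi g1 g2 g3
  have hsum : Fintype.card ι = m 0 + 6 * m 1 + 12 * m 2 + 8 * m 3 := by
    rw [hd, Finset.sum_range_succ, Finset.sum_range_succ, Finset.sum_range_succ, Finset.sum_range_succ,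
      Finset.sum_range_zero]
    have e1 : Nat.choose 3 0 = 1 := rfl
    have e2 : Nat.choose 3 1 = 3 := rfl
    have e3 : Nat.choose 3 2 = 3 := rfl
    have e4 : Nat.choose 3 3 = 1 := rfl
    rw [e1, e2, e3, e4]
    ring
  rw [hn] at hsum
  by_cases hm2 : m 2 = 0
  · have hm3 : m 3 ≠ 0 := by
      intro h
      obtain rfl | rfl : j = 2 ∨ j = 3 := by omega
      · exact hj hm2
      · exact hj h
    have h0 : ∀ j, 0 < j → j < 3 → m j = 0 := by
      intro j h3 h4
      obtain rfl | rfl : j = 1 ∨ j = 2 := by omega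
      · omega
      · exact hm2
    have := s.zero_of_full hσ le_rfl h2 hω hm h0 hm3
    omega
  · obtain ⟨c, g, hcg, hc3, hc⟩ := s.exists_cyc hσ hK2
    set ρ := lin (acRep φ) with hρ
    have hU := hm {0, 1}
    have hU2 : (({0, 1} : Finset (Fin 3))).card = 2 := by decide
    rw [hU2] at hU
    obtain ⟨v, hv, hv0⟩ := (Submodule.ne_bot_iff _).1 (fun h0 => by
      rw [h0, finrank_bot] at hU
      exact hm2 hU.symm : Us (fun i => ρ (σ i st)) ω Finset.univ ({0, 1} : Finset (Fin 3)) ≠ ⊥)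
    have hocc : Occ (fun i => ρ (σ i st)) ω ![1, 1, 0] := by
      refine ⟨v, hv0, fun i => ?_⟩
      have h3 := hv i (Finset.mem_univ i)
      rw [h3]
      congr 1
      fin_cases i
      · rw [if_pos (by decide)]; exact (pow_one ω).symm
      · rw [if_pos (by decide)]; exact (pow_one ω).symm
      · rw [if_neg (by decide)]; exact (pow_zero ω).symm
    have hgi : Function.Injective (ρ g) := by
      intro a b hab
      have h5 : ∀ v, ρ g⁻¹ (ρ g v) = v := fun v => by
        rw [← rho_mul, inv_mul_cancel, map_one]; rfl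
      rw [← h5 a, ← h5 b]
      exact congrArg _ hab
    have h14 := fourteen_le H (c := ρ c) (g := ρ g) (fun i v => by
        change ρ c (ρ (σ i st) v) = ρ (σ (i + 1) st) (ρ c v)
        rw [← rho_mul, ← rho_mul, hc]) (fun v => by
        rw [← rho_mul, ← rho_mul, mul_assoc, hc3, map_one]; rfl) hgi (fun v => by
        change ρ c (ρ g v) = ρ g (ρ (σ 1 st) (ρ (σ 2 st) v))
        rw [← rho_mul, ← rho_mul, ← rho_mul, hcg, mul_assoc]) hocc
    rw [Module.finrank_fintype_fun_eq_card] at h14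
    omega

end three

section four

variable {F : Type u} [Field F] [Finite F] {ι : Type} [Fintype ι] [DecidableEq ι] {P : Subgroup (GL ι F)}
  {K : Type} [Field K] [Finite K] {p : ℕ} [hp : Fact p.Prime] [hFp : CharP F p] [hKp : CharP K p]
  {Y : Type w} [Group Y] [Finite Y] {f : Y →* (KInstSp.model 4 K).I} {φ : Y →* GL ι F} {n₁ : Fin 4 → Y}

/-- **`l = 4`.** -/
theorem Setup.bound4 (s : Setup 4 K p P f φ n₁) (h2 : p = 2) (hn : Fintype.card ι < 24) {i : Fin 4}
    (hi1 : 1 ≤ (i : ℕ)) (hi : i ∉ JB (KInstSp.model 4 K) p f φ) : Fintype.card ι = 16 := by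
  classical
  obtain ⟨σ, hσ⟩ := s.exists_sig
  obtain ⟨ω, hω⟩ := exists_om (AlgebraicClosure F)
  obtain ⟨m, hm, hd⟩ := s.decomp hσ h2 hω
  obtain ⟨g1, g2, g3⟩ := cf4 i hi1
  have R3 := s.rp_last hσ (i := 3) (by decide)
  rw [← CoxeterSystem.wordProd_singleton] at R3
  have R2 := s.rp_step hσ (k := 2) (by decide) R3
  have R1 := s.rp_step hσ (k := 1) (by decide) R2
  have R0 := s.rp_step hσ (k := 0) (by decide) R1
  obtain ⟨j, hj2, hj3, hj⟩ := s.exists_two hσ h2 hω hm (by decide : (0 : Fin 4) ≠ 1) R0 R1 hi g1 g2 g3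
  have hsum : Fintype.card ι = m 0 + 8 * m 1 + 24 * m 2 + 32 * m 3 + 16 * m 4 := by
    rw [hd, Finset.sum_range_succ, Finset.sum_range_succ, Finset.sum_range_succ, Finset.sum_range_succ,
      Finset.sum_range_succ, Finset.sum_range_zero]
    have e1 : Nat.choose 4 0 = 1 := rfl
    have e2 : Nat.choose 4 1 = 4 := rfl
    have e3 : Nat.choose 4 2 = 6 := rfl
    have e4 : Nat.choose 4 3 = 4 := rfl
    have e5 : Nat.choose 4 4 = 1 := rfl
    rw [e1, e2, e3, e4, e5]
    ring
  have hm2 : m 2 = 0 := by omega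
  have hm3 : m 3 = 0 := by omega
  have hm4 : m 4 ≠ 0 := by
    intro h
    obtain rfl | rfl | rfl : j = 2 ∨ j = 3 ∨ j = 4 := by omega
    · exact hj hm2
    · exact hj hm3
    · exact hj h
  have h0 : ∀ j, 0 < j → j < 4 → m j = 0 := by
    intro j h3 h4
    obtain rfl | rfl | rfl : j = 1 ∨ j = 2 ∨ j = 3 := by omega
    · omega
    · exact hm2
    · exact hm3
  have := s.zero_of_full hσ (by norm_num) h2 hω hm h0 hm4
  have := h0 1 (by norm_num) (by norm_num)
  omega

end four

/-! ### all ranks -/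

theorem choose_ge' {l k : ℕ} (hl : 4 ≤ l) (h2 : 2 ≤ k) (hk : k < l) : 2 * l * (l - 1) ≤ l.choose k * 2 ^ k := by
  have hc2 : l.choose 2 * 2 = l * (l - 1) := by
    rw [Nat.choose_two_right]
    exact Nat.div_mul_cancel (Nat.even_mul_pred_self l).two_dvd
  rcases Nat.lt_or_eq_of_le (Nat.succ_le_of_lt hk) with h3 | h3
  · have h4 := H905.Md.choose_two_le (m := l) (k := k) h2 (by omega)
    have h5 : 2 ^ 2 ≤ 2 ^ k := Nat.pow_le_pow_right (by norm_num) h2
    calc 2 * l * (l - 1) = l.choose 2 * 2 ^ 2 := by rw [mul_assoc, ← hc2]; ring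
      _ ≤ _ := Nat.mul_le_mul h4 h5
  · obtain rfl : k = l - 1 := by omega
    have h4 : l.choose (l - 1) = l := by
      obtain ⟨n, rfl⟩ : ∃ n, l = n + 1 := ⟨l - 1, by omega⟩
      exact Nat.choose_succ_self_right n
    have h5 : ∀ n, 2 * (n + 1) ≤ 2 ^ (n + 1) := by
      intro n
      induction n with
      | zero => norm_num
      | succ n ih => rw [pow_succ]; omega
    have h6 := h5 (l - 2)
    have e : l - 2 + 1 = l - 1 := by omega
    rw [e] at h6
    rw [h4]
    calc 2 * l * (l - 1) = l * (2 * (l - 1)) := by ring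
      _ ≤ _ := Nat.mul_le_mul_left _ h6

section all

variable {F : Type u} [Field F] [Finite F] {ι : Type} [Fintype ι] [DecidableEq ι] {P : Subgroup (GL ι F)}
  {K : Type} [Field K] [Finite K] {p : ℕ} [hp : Fact p.Prime] [hFp : CharP F p] [hKp : CharP K p] {l : ℕ}
  {Y : Type w} [Group Y] [Finite Y] {f : Y →* (KInstSp.model l K).I} {φ : Y →* GL ι F} {n₁ : Fin l → Y}

theorem Setup.gen (s : Setup l K p P f φ n₁) (hl : 3 ≤ l) (hK : Nat.card K = Nat.card F) :
    CjOf (spGL l F) P ∨ 2 * l * l ≤ Fintype.card ι ∨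
      ∃ i : Fin l, 1 ≤ (i : ℕ) ∧ i ∉ JB (KInstSp.model l K) p f φ ∧
        l.choose (i + 1) * 2 ^ ((i : ℕ) + 1) ≤ Fintype.card ι := by
  obtain ⟨i₀, hi₀⟩ := H948.Ppd.exists_node s.core s.C s.T
  by_cases hall : ∀ i : Fin l, i ∉ JB (KInstSp.model l K) p f φ → (i : ℕ) = 0
  · have h0 := hall i₀ hi₀
    obtain ⟨ε, h1, h2⟩ := H948.Ppd.bound_first s.core s.C s.T (by omega) h0 hi₀
    rcases Nat.eq_zero_or_pos ε with hε | hε
    · left
      obtain ⟨τ, θ, hθ⟩ := identify_B s.core (hAsp l K p) (hp0sp l K) (by omega)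
        (span_of_matrixSet mem_spGL_iff' (H931.spGL_absIrreducible (by omega))) s.C s.T (o := i₀) h0
        (fun i hi => Fin.ext ((hall i hi).trans h0.symm)) (by rw [hε] at h1; exact h1)
      exact cjOf_of mem_spGL_iff' (map_spGL_glm τ l) hθ
    · right; left
      have h3 : 2 * l * (l - 1) ≤ 2 * l * (l - 1) * ε := Nat.le_mul_of_pos_right _ hε
      have h4 : 2 * l * l = 2 * l + 2 * l * (l - 1) := by
        obtain ⟨n, rfl⟩ : ∃ n, l = n + 1 := ⟨l - 1, by omega⟩
        rw [Nat.add_sub_cancel]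
        ring
      omega
  · push Not at hall
    obtain ⟨i, hi, hi0⟩ := hall
    right; right
    have h2 := s.two_le hK hi
    have h3 := H948.Ppd.bound_all s.core s.C s.T hi
    have h4 : (l.choose (i + 1) * 2 ^ ((i : ℕ) + 1)) * 2 ≤ 2 * Fintype.card ι := (Nat.mul_le_mul_left _ h2).trans h3
    exact ⟨i, by omega, hi, by omega⟩

end all

/-- **The dimensions.** `P / Z(P) ≅ PSp_2l(K)`, `|K| = |F|` even, `n ≥ 13`. -/
theorem dims {F : Type u} [Field F] [Finite F] {ι : Type} [Fintype ι] [DecidableEq ι] {P : Subgroup (GL ι F)}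
    {K : Type} [Field K] [Finite K] [CharP F 2] [CharP K 2] {l : ℕ} (hC : Core P) (hl : 3 ≤ l)
    (e : Soc P ≃* PSp l K) (hK : Nat.card K = Nat.card F) (h13 : 13 ≤ Fintype.card ι) :
    CjOf (spGL l F) P ∨ (l = 3 ∧ 14 ≤ Fintype.card ι) ∨ (l = 4 ∧ (Fintype.card ι = 16 ∨ 24 ≤ Fintype.card ι)) ∨
      (5 ≤ l ∧ (2 * l * (l - 1) ≤ Fintype.card ι ∨ 2 ^ l ≤ Fintype.card ι)) := by
  have : Fact (Nat.Prime 2) := ⟨Nat.prime_two⟩
  obtain ⟨Y, _, _, f, φ, n₁, s⟩ := exists_setup (p := 2) hC hl e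
  rcases s.gen hl hK with h | h | ⟨i, hi1, hi, hb⟩
  · exact Or.inl h
  · right
    have h1 : 2 * l * (l - 1) ≤ 2 * l * l := Nat.mul_le_mul_left _ (by omega)
    obtain rfl | rfl | h5 : l = 3 ∨ l = 4 ∨ 5 ≤ l := by omega
    · exact Or.inl ⟨rfl, by omega⟩
    · exact Or.inr (Or.inl ⟨rfl, Or.inr (by omega)⟩)
    · exact Or.inr (Or.inr ⟨h5, Or.inl (h1.trans h)⟩)
  · right
    obtain rfl | rfl | h5 : l = 3 ∨ l = 4 ∨ 5 ≤ l := by omega
    · refine Or.inl ⟨rfl, ?_⟩
      by_contra hcon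
      exact s.bound3 rfl (by omega) hi1 hi
    · refine Or.inr (Or.inl ⟨rfl, ?_⟩)
      rcases Nat.lt_or_ge (Fintype.card ι) 24 with h6 | h6
      · exact Or.inl (s.bound4 rfl h6 hi1 hi)
      · exact Or.inr h6
    · refine Or.inr (Or.inr ⟨h5, ?_⟩)
      have hi' := i.2
      rcases Nat.lt_or_eq_of_le (Nat.succ_le_of_lt hi') with h6 | h6
      · exact Or.inl ((choose_ge' (by omega) (by omega) h6).trans hb)
      · right
        have e : (i : ℕ) + 1 = l := h6
        rw [e, Nat.choose_self, one_mul] at hb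
        exact hb

end Cfsg.Agent.H532.EP
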