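import Cfsg.Agent.H532.EP.Wt

/-!
# S3499, VII13-PSp: three commuting operators of order 3, permuted by an operator `c` conjugate to `r 1 r 2` (helper532)

**`fourteen_le`** : if a weight with exactly one coordinate 0 occurs then the dimension is at least 14.
-/

set_option autoImplicit false
set_option linter.unusedSectionVars false

namespace Cfsg.Agent.H532.EP

section

variable {k V : Type*} [Field k] [AddCommGroup V] [Module k V]

theorem card_le_of_linInd [FiniteDimensional k V] {J : Type*} [Fintype J] {x : J → V} {E : Submodule k V}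
    (hx : LinearIndependent k x) (hE : ∀ j, x j ∈ E) : Fintype.card J ≤ Module.finrank k E := by
  have h1 : LinearIndependent k (fun j => (⟨x j, hE j⟩ : E)) := LinearIndependent.of_comp E.subtype hx
  exact h1.fintype_card_le_finrank

variable {r t : Fin 3 → Module.End k V} {ω : k}

/-- the weight `w` occurs -/
def Occ (r : Fin 3 → Module.End k V) (ω : k) (w : Fin 3 → Fin 3) : Prop :=
  ∃ x : V, x ≠ 0 ∧ ∀ i, r i x = ω ^ (w i : ℕ) • x

theorem Occ.flip (H : Hyp r t ω) {w : Fin 3 → Fin 3} (h : Occ r ω w) (i : Fin 3) :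
    Occ r ω (Function.update w i (-w i)) := by
  obtain ⟨x, hx, h⟩ := h
  have hω3 := om3 H.om
  refine ⟨t i x, fun h0 => hx (H.inj i (by rw [h0, map_zero])), fun j => ?_⟩
  by_cases hij : j = i
  · subst hij
    rw [H.tinv, h, map_smul, h, smul_smul, map_smul, Function.update_self]
    congr 1
    generalize w j = a
    fin_cases a
    · norm_num
    · change ω ^ 1 * ω ^ 1 = ω ^ 2
      ring
    · change ω ^ 2 * ω ^ 2 = ω ^ 1
      linear_combination ω * hω3
  · rw [H.tcomm j i x hij, h, map_smul, Function.update_of_ne hij]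

theorem Occ.rot {c : Module.End k V} (hc : ∀ i v, c (r i v) = r (i + 1) (c v)) (hci : Function.Injective c)
    {w : Fin 3 → Fin 3} (h : Occ r ω w) : Occ r ω (fun i => w (i - 1)) := by
  obtain ⟨x, hx, h⟩ := h
  refine ⟨c x, fun h0 => hx (hci (by rw [h0, map_zero])), fun j => ?_⟩
  have h1 := hc (j - 1) x
  rw [sub_add_cancel] at h1
  rw [← h1, h, map_smul]

theorem occ_all (H : Hyp r t ω) (h : Occ r ω ![1, 1, 0]) {a b : Fin 3} (ha : a ≠ 0) (hb : b ≠ 0) :
    Occ r ω ![a, b, 0] := by
  have h1 := h.flip H 0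
  have h2 := h.flip H 1
  have h3 := h2.flip H 0
  have e1 : Function.update ![1, 1, (0 : Fin 3)] 0 (-(![1, 1, (0 : Fin 3)] 0)) = ![2, 1, 0] := by decide
  have e2 : Function.update ![1, 1, (0 : Fin 3)] 1 (-(![1, 1, (0 : Fin 3)] 1)) = ![1, 2, 0] := by decide
  rw [e1] at h1
  rw [e2] at h2 h3
  have e3 : Function.update ![1, 2, (0 : Fin 3)] 0 (-(![1, 2, (0 : Fin 3)] 0)) = ![2, 2, 0] := by decide
  rw [e3] at h3
  fin_cases a
  · exact absurd rfl ha
  · fin_cases b
    · exact absurd rfl hb
    · exact h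
    · exact h2
  · fin_cases b
    · exact absurd rfl hb
    · exact h1
    · exact h3

/-- **The count.** -/
theorem fourteen_le [FiniteDimensional k V] (H : Hyp r t ω) {c g : Module.End k V}
    (hc : ∀ i v, c (r i v) = r (i + 1) (c v)) (hc3 : ∀ v, c (c (c v)) = v)
    (hg : Function.Injective g) (hcg : ∀ v, c (g v) = g (r 1 (r 2 v))) (h : Occ r ω ![1, 1, 0]) :
    14 ≤ Module.finrank k V := by
  have hω3 := om3 H.om
  have hω1 := om1 H.om H.ne
  have hω2 := om2 H.om H.ne
  have hci : Function.Injective c := fun x y hxy => by rw [← hc3 x, hxy, hc3]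
  have h12 : ∀ {a b : Fin 3}, a ≠ 0 → b ≠ 0 → Occ r ω ![a, b, 0] := fun ha hb => occ_all H h ha hb
  have h23 : ∀ {a b : Fin 3}, a ≠ 0 → b ≠ 0 → Occ r ω ![0, a, b] := by
    intro a b ha hb
    have h1 := (h12 ha hb).rot hc hci
    have e : (fun i : Fin 3 => ![a, b, 0] (i - 1)) = ![0, a, b] := by
      funext i
      fin_cases i <;> rfl
    rwa [e] at h1
  have h13 : ∀ {a b : Fin 3}, a ≠ 0 → b ≠ 0 → Occ r ω ![b, 0, a] := by
    intro a b ha hb
    have h1 := (h23 ha hb).rot hc hci
    have e : (fun i : Fin 3 => ![0, a, b] (i - 1)) = ![b, 0, a] := by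
      funext i
      fin_cases i <;> rfl
    rwa [e] at h1
  -- the eigenvalues ω, ω ^ 2
  have key : ∀ (e : Fin 3) (w : Fin 5 → Fin 3 → Fin 3), Function.Injective w → (∀ j, Occ r ω (w j)) →
      (∀ j, w j 1 + w j 2 = e) → 5 ≤ Module.finrank k (Ei ⊤ c (ω ^ (e : ℕ))) := by
    intro e w hw hocc he
    choose x hx0 hx using hocc
    have h1 : LinearIndependent k x := linInd H.om H.ne (fun j i => hx j i) hx0 hw
    have h2 : LinearIndependent k (g ∘ x) := h1.map' g (LinearMap.ker_eq_bot.2 hg)
    have h3 := card_le_of_linInd (E := Ei ⊤ c (ω ^ (e : ℕ))) h2 (fun j => mem_Ei.2 ⟨trivial, by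
      rw [Function.comp_apply, hcg, hx, map_smul, hx, smul_smul, map_smul]
      congr 1
      rw [← he j]
      generalize w j 1 = a
      generalize w j 2 = b
      fin_cases a <;> fin_cases b
      · norm_num
      · change ω ^ 1 * ω ^ 0 = ω ^ 1
        ring
      · change ω ^ 2 * ω ^ 0 = ω ^ 2
        ring
      · change ω ^ 0 * ω ^ 1 = ω ^ 1
        ring
      · change ω ^ 1 * ω ^ 1 = ω ^ 2
        ring
      · change ω ^ 2 * ω ^ 1 = ω ^ 0
        linear_combination hω3
      · change ω ^ 0 * ω ^ 2 = ω ^ 2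
        ring
      · change ω ^ 1 * ω ^ 2 = ω ^ 0
        linear_combination hω3
      · change ω ^ 2 * ω ^ 2 = ω ^ 1
        linear_combination ω * hω3⟩)
    rwa [Fintype.card_fin] at h3
  have k1 : 5 ≤ Module.finrank k (Ei ⊤ c ω) := by
    have := key 1 ![![1, 1, 0], ![2, 1, 0], ![1, 0, 1], ![2, 0, 1], ![0, 2, 2]] (by decide) (by
      intro j
      fin_cases j
      · exact h12 (by decide) (by decide)
      · exact h12 (by decide) (by decide)
      · exact h13 (by decide) (by decide)
      · exact h13 (by decide) (by decide)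
      · exact h23 (by decide) (by decide)) (by decide)
    rwa [show ((1 : Fin 3) : ℕ) = 1 from rfl, pow_one] at this
  have k2 : 5 ≤ Module.finrank k (Ei ⊤ c (ω ^ 2)) := by
    have := key 2 ![![1, 2, 0], ![2, 2, 0], ![1, 0, 2], ![2, 0, 2], ![0, 1, 1]] (by decide) (by
      intro j
      fin_cases j
      · exact h12 (by decide) (by decide)
      · exact h12 (by decide) (by decide)
      · exact h13 (by decide) (by decide)
      · exact h13 (by decide) (by decide)
      · exact h23 (by decide) (by decide)) (by decide)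
    exact this
  -- the eigenvalue 1
  have k0 : 4 ≤ Module.finrank k (Ei ⊤ c 1) := by
    have hocc : ∀ j : Fin 2 × Fin 2, Occ r ω ![j.1.succ, j.2.succ, 0] := fun j =>
      h12 (Fin.succ_ne_zero _) (Fin.succ_ne_zero _)
    choose x hx0 hx using hocc
    have hE : ∀ j, x j + c (x j) + c (c (x j)) ∈ Ei ⊤ c 1 := fun j => mem_Ei.2 ⟨trivial, by
      rw [map_add, map_add, hc3, one_smul]
      abel⟩
    let Z : Module.End k V := (r 0 - 1) * (r 1 - 1)
    have hZ : ∀ v, Z v = r 0 (r 1 v - v) - (r 1 v - v) := fun v => rfl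
    have hw1 : ∀ j, ω ^ (j : Fin 2).succ.val - 1 ≠ 0 := by
      intro j
      fin_cases j
      · change ω ^ 1 - 1 ≠ 0
        rw [pow_one]
        exact sub_ne_zero.2 hω1
      · exact sub_ne_zero.2 hω2
    have hZx : ∀ j, Z (x j + c (x j) + c (c (x j))) =
        ((ω ^ (j.1.succ : ℕ) - 1) * (ω ^ (j.2.succ : ℕ) - 1)) • x j := by
      intro j
      have e0 : r 0 (x j) = ω ^ (j.1.succ : ℕ) • x j := hx j 0
      have e1 : r 1 (x j) = ω ^ (j.2.succ : ℕ) • x j := hx j 1
      have e2 : r 2 (x j) = x j := by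
        have := hx j 2
        rw [this]
        change ω ^ 0 • x j = x j
        rw [pow_zero, one_smul]
      have f1 : r 0 (c (x j)) = c (x j) := by
        have := hc 2 (x j)
        rw [e2] at this
        exact this.symm
      have f2 : r 1 (c (c (x j))) = c (c (x j)) := by
        have := hc 0 (c (x j))
        rw [f1] at this
        exact this.symm
      have z1 : Z (c (x j)) = 0 := by
        rw [hZ, map_sub, H.comm 0 1, f1, sub_self]
      have z2 : Z (c (c (x j))) = 0 := by
        rw [hZ, f2, sub_self, map_zero, sub_zero]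
      rw [map_add, map_add, z1, z2, add_zero, add_zero, hZ, map_sub, e1, map_smul, e0]
      module
    have h1 : LinearIndependent k (fun j => Z (x j + c (x j) + c (c (x j)))) := by
      refine linInd (r := r) H.om H.ne (w := fun j : Fin 2 × Fin 2 => ![j.1.succ, j.2.succ, 0]) (fun j i => ?_) (fun j => ?_)
        (by decide)
      · rw [hZx, map_smul, hx, smul_comm]
      · rw [hZx]
        exact smul_ne_zero (mul_ne_zero (hw1 _) (hw1 _)) (hx0 j)
    have h2 : LinearIndependent k (fun j => x j + c (x j) + c (c (x j))) := LinearIndependent.of_comp Z h1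
    have h3 := card_le_of_linInd (E := Ei ⊤ c 1) h2 hE
    rwa [Fintype.card_prod, Fintype.card_fin] at h3
  have h0 := split3 (L := ⊤) (r := c) (fun _ _ => trivial) (fun v _ => hc3 v) H.om H.ne
  rw [finrank_top] at h0
  omega

end

end Cfsg.Agent.H532.EP
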