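import Cfsg.Agent.H532.EP.Lift
import Cfsg.Agent.H532.EP.Wt3

/-!
# S3499, VII13-PSp: the elements of order 3 in the long root `SL_2`'s, characteristic 2 (helper532)

`r i = ρ (σ i st)`, `st` the element `ww * U 1` of order 3, `t i = ρ (σ i (U 1))`.

* `Setup.hyp` : the operators;
* **`Setup.claim1`** : `(r a - 1) (r b - 1) ≠ 0`;
* **`Setup.claim2`** : if `ker (r i - 1)` does not depend on `i` then it is `0` or everything.
-/

set_option autoImplicit false
set_option linter.unusedSectionVars false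
set_option linter.style.haveILetI false

namespace Cfsg.Agent.H532.EP

open CoxeterSystem Cfsg.Agent.ChevalleyStructure.CoxeterGeom Cfsg.Agent.Tits.Roots Cfsg.Agent.Tits.Core
  Cfsg.Agent.Nodes.Reps Cfsg.Agent.Nodes.BNOf Cfsg.Agent.Nodes.Bruhat Cfsg.Agent.Nodes.RGDLib
open Cfsg.Agent.Nodes Cfsg.Agent.Nodes.WittRoot Cfsg.Agent.Nodes.WittAll
open Cfsg.Agent.Nodes.TypeC (isCartan wt ee nx ng Ok)
open Cfsg.Agent.TitsThree Cfsg.Agent.TitsThree.Siegel Cfsg.Agent.TitsThree.WittFrame Cfsg.Agent.TitsThree.FrameCN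
open Cfsg.Agent.H915.LD Cfsg.Agent.H911 Cfsg.Agent.H905.Md Cfsg.Agent.H925.Nat Cfsg.Agent.Nodes.RGDLift
open Cfsg.Agent.H905.DC (co fire cf co_one co_mul_simple co_mul_left co_wordProd)
open Cfsg.Agent.H156.Ppd (Cov lrep)
open Cfsg.Agent.H948.Ppd (TB XB NB JB dB)
open Cfsg.Agent.Omega.CR Cfsg.Agent.Omega.FOne.Lift.Sd
open Cfsg.Agent.H911.SLTwo (U Lo hh ww U_pow U_zero Lo_zero)
open Cfsg Cfsg.Geo
open scoped MatrixGroups Matrix

universe u v w

section sl

variable {K : Type*} [Field K]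

/-- the element of order 3 -/
def st : SL(2, K) := ww * U 1

theorem st_cube : (st : SL(2, K)) * (st * st) = 1 := by
  apply H911.SLTwo.ext' <;> simp only [st, H911.SLTwo.m00, H911.SLTwo.m01, H911.SLTwo.m10, H911.SLTwo.m11,
    H911.SLTwo.U00, H911.SLTwo.U01, H911.SLTwo.U10, H911.SLTwo.U11, H911.SLTwo.ww00, H911.SLTwo.ww01,
    H911.SLTwo.ww10, H911.SLTwo.ww11, H911.SLTwo.o00, H911.SLTwo.o01, H911.SLTwo.o10, H911.SLTwo.o11] <;> ring

theorem st_U (h2 : (2 : K) = 0) : (st : SL(2, K)) * U 1 = U 1 * (st * st) := by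
  apply H911.SLTwo.ext' <;> simp only [st, H911.SLTwo.m00, H911.SLTwo.m01, H911.SLTwo.m10, H911.SLTwo.m11,
    H911.SLTwo.U00, H911.SLTwo.U01, H911.SLTwo.U10, H911.SLTwo.U11, H911.SLTwo.ww00, H911.SLTwo.ww01,
    H911.SLTwo.ww10, H911.SLTwo.ww11] <;> first | linear_combination h2 | linear_combination -h2 | ring

end sl

/-- `w ∈ W_J` fixes the functionals outside `J` -/
theorem cf_eq_of_mem {l : ℕ} {J : Set (Fin l)} {i : Fin l} (hi : i ∉ J) {ω : List (Fin l)}
    (h : (CoxeterMatrix.B l).toCoxeterSystem.wordProd ω ∈ WJ (CoxeterMatrix.B l).toCoxeterSystem J) :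
    cf (TypeC.A l) i ω = cf (TypeC.A l) i [] := by
  have h1 := co_mul_left (CoxeterMatrix.B l).toCoxeterSystem (isCartan l) hi h 1
  rw [mul_one, co_wordProd] at h1
  rw [h1, ← co_wordProd (cs := (CoxeterMatrix.B l).toCoxeterSystem) (h := isCartan l), wordProd_nil]

namespace Setup

variable {F : Type u} [Field F] [Finite F] {ι : Type} [Fintype ι] [DecidableEq ι] {P : Subgroup (GL ι F)}
  {K : Type} [Field K] [Finite K] {p : ℕ} [hp : Fact p.Prime] [hFp : CharP F p] [hKp : CharP K p] {l : ℕ}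
  {Y : Type w} [Group Y] [Finite Y] {f : Y →* (KInstSp.model l K).I} {φ : Y →* GL ι F} {n₁ : Fin l → Y}
  (s : Setup l K p P f φ n₁) {σ : Fin l → SL(2, K) →* Y} (hσ : IsSig f σ)
include s hσ

/-- **Claim 1.** -/
theorem claim1 {a b : Fin l} (hab : a ≠ b) {ωa ωb : List (Fin l)}
    (hRa : Rp (CoxeterMatrix.B l).toCoxeterSystem s.C.rgd.nsys
      ((CoxeterMatrix.B l).toCoxeterSystem.wordProd ωa) (σ a ww))
    (hRb : Rp (CoxeterMatrix.B l).toCoxeterSystem s.C.rgd.nsys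
      ((CoxeterMatrix.B l).toCoxeterSystem.wordProd ωb) (σ b ww))
    {i : Fin l} (hi : i ∉ JB (KInstSp.model l K) p f φ) (ha : cf (TypeC.A l) i ωa ≠ cf (TypeC.A l) i [])
    (hb : cf (TypeC.A l) i ωb ≠ cf (TypeC.A l) i []) (hc : cf (TypeC.A l) i (ωa ++ ωb) ≠ cf (TypeC.A l) i []) :
    ∃ v : ι → AlgebraicClosure F, lin (acRep φ) (σ a st) (lin (acRep φ) (σ b st) v - v) ≠
      lin (acRep φ) (σ b st) v - v := by
  have hWf : Finite (CoxeterMatrix.B l).Group := TypeC.finite_W (CoxeterMatrix.B l).toCoxeterSystem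
  have hne := s.core.nonempty
  have hchar : CharP (AlgebraicClosure F) p := charP_of_injective_algebraMap (algebraMap F _).injective p
  obtain ⟨hirr, hD⟩ := H948.Ppd.irr_B s.core s.C s.T
  set ρ := lin (acRep φ) with hρ
  obtain ⟨v, hv, hv0⟩ := (Submodule.ne_bot_iff _).1
    (fun h0 => by rw [h0, finrank_bot] at hD; exact zero_ne_one hD :
      D (CoxeterMatrix.B l).toCoxeterSystem (isCartan l) (fun x => lft p f (XB (KInstSp.model l K) x)) ρ ≠ ⊥)
  obtain ⟨ψ, hψ, hψv⟩ := exists_pair_D s.C.rgd hirr hv hv0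
  have hU : ∀ j, ρ (σ j (U 1)) v = v := fun j => hv _ (s.mem_U hσ j 1)
  have hst : ∀ j, ρ (σ j st) v = ρ (σ j ww) v := by
    intro j
    rw [st, map_mul, rho_mul, hU]
  have hkill : ∀ (ω : List (Fin l)) (g : Y), Rp (CoxeterMatrix.B l).toCoxeterSystem s.C.rgd.nsys
      ((CoxeterMatrix.B l).toCoxeterSystem.wordProd ω) g → cf (TypeC.A l) i ω ≠ cf (TypeC.A l) i [] →
      ψ (ρ g v) = 0 := by
    intro ω g hg hne'
    by_contra h0
    exact hne' (cf_eq_of_mem hi (mem_WJ_of_pair s.C.rgd hirr hψ hg hv h0))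
  refine ⟨v, fun h => hψv ?_⟩
  have e1 : ρ (σ a st) (ρ (σ b st) v) = ρ (σ a ww * σ b ww) v := by
    rw [hst, ← rho_mul, s.comm hσ hab st ww, rho_mul, hst, ← rho_mul, s.comm hσ hab ww ww]
  rw [map_sub, e1, hst, hst] at h
  have h1 := congrArg ψ h
  rw [map_sub, map_sub, hkill _ _ hRa ha, hkill _ _ hRb hb, hkill _ _ (by
    have := hRa.mul hRb
    rwa [← CoxeterSystem.wordProd_append] at this) hc] at h1
  linear_combination h1

/-- **Claim 2.** -/
theorem claim2 (hl : 3 ≤ l) {L : Submodule (AlgebraicClosure F) (ι → AlgebraicClosure F)} {x : SL(2, K)}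
    (hL : ∀ (i : Fin l) (v : ι → AlgebraicClosure F), v ∈ L ↔ lin (acRep φ) (σ i x) v = v) : L = ⊥ ∨ L = ⊤ := by
  have hWf : Finite (CoxeterMatrix.B l).Group := TypeC.finite_W (CoxeterMatrix.B l).toCoxeterSystem
  have hne := s.core.nonempty
  obtain ⟨hirr, -⟩ := H948.Ppd.irr_B s.core s.C s.T
  apply hirr
  set ρ := lin (acRep φ) with hρ
  have h1 : G1 (CoxeterMatrix.B l).toCoxeterSystem (isCartan l) (fun x => lft p f (XB (KInstSp.model l K) x)) ≤
      stS ρ L := by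
    refine RGD.Sup_le fun z hz => ?_
    obtain ⟨a, b, hab, hz'⟩ := TypeC.exists_of_isRoot _ hz
    have hi : ∃ i : Fin l, a.1 ≠ i ∧ b.1 ≠ i := by
      by_contra hcon
      push Not at hcon
      have h2 : (Finset.univ : Finset (Fin l)) ⊆ {a.1, b.1} := by
        intro i _
        rw [Finset.mem_insert, Finset.mem_singleton]
        by_cases h : a.1 = i
        · exact Or.inl h.symm
        · exact Or.inr (hcon i h).symm
      have h3 := (Finset.card_le_card h2).trans Finset.card_le_two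
      rw [Finset.card_univ, Fintype.card_fin] at h3
      omega
    obtain ⟨i, ha, hb⟩ := hi
    refine le_stS (ρ := ρ) fun u hu v hv => ?_
    rw [hL i] at hv ⊢
    rw [← rho_mul, ← s.comm_root hσ hab hz' ha hb hu x, rho_mul, hv]
  refine Ivt_of_le (ρ := ρ) ?_
  rw [s.C.hGG, ← s.C.gen]
  exact h1

end Setup

end Cfsg.Agent.H532.EP
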