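import Cfsg.Agent.H532.EP.Claim

/-!
# S3499, VII13-PSp: the cyclic permutation of three planes in `Sp_6(K)`, characteristic 2 (helper532)

`gl` : an isometry with `gl (st_1 st_2) gl⁻¹` = the cyclic permutation of the planes; **`Setup.exists_cyc`** : the lifts.
-/

set_option autoImplicit false
set_option linter.unusedSectionVars false
set_option linter.style.haveILetI false

namespace Cfsg.Agent.H532.EP

open Cfsg.Agent.Nodes Cfsg.Agent.TitsThree Cfsg.Agent.TitsThree.Siegel Cfsg.Agent.TitsThree.WittFrame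
open Cfsg.Agent.TitsThree.FrameCN Cfsg.Agent.TitsThree.SpIdent
open Cfsg.Agent.ClassicalGeometry.SympBasic
open Cfsg.Agent.H62.FrameSL (phiL phiL_apply linL_apply)
open Cfsg.Agent.H911.SLTwo (U ww)
open Cfsg Cfsg.Geo
open scoped MatrixGroups Matrix

universe u v w

set_option linter.unusedSimpArgs false

section cyc

variable {K : Type} [Field K]

/-- the map -/
def glf (v : Fin 3 ⊕ Fin 3 → K) : Fin 3 ⊕ Fin 3 → K := Sum.elim
  ![v (Sum.inl 0) + v (Sum.inl 1) + v (Sum.inl 2), v (Sum.inl 0) + v (Sum.inr 1) + v (Sum.inr 2),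
    v (Sum.inl 0) + v (Sum.inr 1) + v (Sum.inl 1) + v (Sum.inr 2) + v (Sum.inl 2)]
  ![v (Sum.inr 0) + v (Sum.inr 1) + v (Sum.inr 2) + v (Sum.inl 2),
    v (Sum.inr 0) + v (Sum.inr 1) + v (Sum.inl 1) + v (Sum.inl 2), v (Sum.inr 0) + v (Sum.inl 1) + v (Sum.inr 2)]

/-- the linear map -/
def gll : (Fin 3 ⊕ Fin 3 → K) →ₗ[K] (Fin 3 ⊕ Fin 3 → K) where
  toFun := glf
  map_add' v w := by
    funext x
    rcases x with i | i <;> fin_cases i <;> simp [glf] <;> ring
  map_smul' c v := by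
    funext x
    rcases x with i | i <;> fin_cases i <;> simp [glf] <;> ring

theorem glf_form (h2 : (2 : K) = 0) (u v : Fin 3 ⊕ Fin 3 → K) : sympForm 3 K (glf u) (glf v) = sympForm 3 K u v := by
  simp only [sympForm_eq_sum, Fin.sum_univ_three, glf, Sum.elim_inl, Sum.elim_inr, Matrix.cons_val_zero,
    Matrix.cons_val_one, Matrix.cons_val_two, Matrix.cons_val, Matrix.tail_cons, Matrix.head_cons]
  linear_combination ((-1) * u (Sum.inl 0) * v (Sum.inl 1) + (-1) * u (Sum.inl 0) * v (Sum.inl 2)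
       + (-1) * u (Sum.inl 0) * v (Sum.inr 0) + (-1) * u (Sum.inl 0) * v (Sum.inr 1)
       + (-1) * u (Sum.inl 0) * v (Sum.inr 2) + (1) * u (Sum.inl 1) * v (Sum.inl 0)
       + (-1) * u (Sum.inl 1) * v (Sum.inr 0) + (1) * u (Sum.inl 1) * v (Sum.inr 1)
       + (1) * u (Sum.inl 2) * v (Sum.inl 0) + (-1) * u (Sum.inl 2) * v (Sum.inr 0)
       + (1) * u (Sum.inr 0) * v (Sum.inl 0) + (1) * u (Sum.inr 0) * v (Sum.inl 1)
       + (1) * u (Sum.inr 0) * v (Sum.inl 2) + (1) * u (Sum.inr 0) * v (Sum.inr 1)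
       + (1) * u (Sum.inr 0) * v (Sum.inr 2) + (1) * u (Sum.inr 1) * v (Sum.inl 0)
       + (-1) * u (Sum.inr 1) * v (Sum.inl 1) + (-1) * u (Sum.inr 1) * v (Sum.inr 0)
       + (1) * u (Sum.inr 2) * v (Sum.inl 0) + (-1) * u (Sum.inr 2) * v (Sum.inr 0)) * h2

/-- the matrix -/
noncomputable def glm : Matrix (Fin 3 ⊕ Fin 3) (Fin 3 ⊕ Fin 3) K := LinearMap.toMatrix' gll

theorem glm_mulVec (v : Fin 3 ⊕ Fin 3 → K) : glm *ᵥ v = glf v := LinearMap.toMatrix'_mulVec gll v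

theorem exists_gl (h2 : (2 : K) = 0) : ∃ g : (KInstSp.model 3 K).I, ∀ v, g.1 v = glf v := by
  have h1 : (glm : Matrix (Fin 3 ⊕ Fin 3) (Fin 3 ⊕ Fin 3) K) ∈ Matrix.symplecticGroup (Fin 3) K := by
    rw [mem_symplecticGroup_iff]
    intro u v
    rw [glm_mulVec, glm_mulVec, glf_form h2]
  exact ⟨⟨ofSp ⟨glm, h1⟩, ofSp_mem _⟩, fun v => glm_mulVec v⟩

/-- the cyclic permutation -/
def cyf (v : Fin 3 ⊕ Fin 3 → K) : Fin 3 ⊕ Fin 3 → K :=
  Sum.elim (fun i => v (Sum.inl (i - 1))) (fun i => v (Sum.inr (i - 1)))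

theorem cyf_b (i : Fin 3) (b : Bool) : cyf ((frame 3 K).b (i, b)) = (frame 3 K).b (i + 1, b) := by
  have e1 : ∀ i j : Fin 3, i = j + 1 ↔ i - 1 = j := by decide
  funext x
  cases b
  · rw [frame_b_false, frame_b_false]
    unfold SpIdent.f cyf
    rcases x with j | j
    · simp only [Sum.elim_inl, Pi.single_apply, Sum.inl.injEq, e1]
    · simp
  · rw [frame_b_true, frame_b_true]
    unfold SpIdent.e cyf
    rcases x with j | j
    · simp
    · simp only [Sum.elim_inr, Pi.single_apply, Sum.inr.injEq, e1]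

theorem phiL_st (h2 : (2 : K) = 0) {m : ℕ} (i : Fin m) (v : Fin m ⊕ Fin m → K) :
    phiL (frame m K) i st v = v + (v (Sum.inl i) + v (Sum.inr i)) • SpIdent.e m K i +
      (v (Sum.inr i)) • SpIdent.f m K i := by
  have e1 : (form m K).h v ((frame m K).b (i, false)) = v (Sum.inr i) := by
    rw [frame_b_false, form_h, SpIdent.f, sympForm_single_inl_right]
  have e2 : (form m K).h v ((frame m K).b (i, true)) = - v (Sum.inl i) := by
    rw [frame_b_true, form_h, SpIdent.e, sympForm_single_inr_right]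
  rw [phiL_apply, linL_apply, e1, e2, form_ε, frame_b_true, frame_b_false]
  have f1 : (st : SL(2, K)).1 0 0 = 0 := by
    rw [st, H911.SLTwo.m00, H911.SLTwo.ww00, H911.SLTwo.ww01, H911.SLTwo.U10]; ring
  have f2 : (st : SL(2, K)).1 0 1 = 1 := by
    rw [st, H911.SLTwo.m01, H911.SLTwo.ww00, H911.SLTwo.ww01, H911.SLTwo.U11]; ring
  have f3 : (st : SL(2, K)).1 1 0 = -1 := by
    rw [st, H911.SLTwo.m10, H911.SLTwo.ww10, H911.SLTwo.ww11, H911.SLTwo.U00]; ring
  have f4 : (st : SL(2, K)).1 1 1 = -1 := by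
    rw [st, H911.SLTwo.m11, H911.SLTwo.ww10, H911.SLTwo.ww11, H911.SLTwo.U01]; ring
  rw [f1, f2, f3, f4]
  have g1 : (0 - 1 : K) * v (Sum.inr i) + 1 * ((-1)⁻¹ * -v (Sum.inl i)) = v (Sum.inl i) + v (Sum.inr i) := by
    rw [inv_neg, inv_one]
    linear_combination (- v (Sum.inr i)) * h2
  have g2 : (-1 : K) * v (Sum.inr i) + (-1 - 1) * ((-1)⁻¹ * -v (Sum.inl i)) = v (Sum.inr i) := by
    rw [inv_neg, inv_one]
    linear_combination (- v (Sum.inr i) - v (Sum.inl i)) * h2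
  rw [g1, g2]

/-- `gl (st_1 st_2) = cyc gl` -/
theorem glf_st (h2 : (2 : K) = 0) (v : Fin 3 ⊕ Fin 3 → K) :
    glf (phiL (frame 3 K) 1 st (phiL (frame 3 K) 2 st v)) = cyf (glf v) := by
  rw [phiL_st h2, phiL_st h2]
  have f1 : ∀ i j : Fin 3, SpIdent.e 3 K i (Sum.inr j) = if j = i then 1 else 0 := by
    intro i j
    rw [SpIdent.e, Pi.single_apply]
    simp only [Sum.inr.injEq]
  have f2 : ∀ i j : Fin 3, SpIdent.e 3 K i (Sum.inl j) = 0 := by
    intro i j
    rw [SpIdent.e, Pi.single_apply]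
    simp
  have f3 : ∀ i j : Fin 3, SpIdent.f 3 K i (Sum.inl j) = if j = i then 1 else 0 := by
    intro i j
    rw [SpIdent.f, Pi.single_apply]
    simp only [Sum.inl.injEq]
  have f4 : ∀ i j : Fin 3, SpIdent.f 3 K i (Sum.inr j) = 0 := by
    intro i j
    rw [SpIdent.f, Pi.single_apply]
    simp
  have c0 : (0 : Fin 3) - 1 = 2 := rfl
  have c1 : (1 : Fin 3) - 1 = 0 := rfl
  have c2 : (2 : Fin 3) - 1 = 1 := rfl
  have d1 : ((0 : Fin 3) = 1) = False := by decide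
  have d2 : ((0 : Fin 3) = 2) = False := by decide
  have d3 : ((1 : Fin 3) = 2) = False := by decide
  have d4 : ((2 : Fin 3) = 1) = False := by decide
  funext x
  rcases x with i | i <;> fin_cases i <;>
    simp only [glf, cyf, Pi.add_apply, Pi.smul_apply, smul_eq_mul, f1, f2, f3, f4, Sum.elim_inl, Sum.elim_inr,
      Matrix.cons_val_zero, Matrix.cons_val_one, Matrix.cons_val_two, Matrix.cons_val, Matrix.tail_cons,
      Matrix.head_cons, c0, c1, c2, d1, d2, d3, d4, if_true, if_false, mul_zero, mul_one, add_zero, zero_add,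
      Fin.zero_eta, Fin.mk_one, Fin.reduceFinMk, Fin.isValue]
  · ring
  · linear_combination (v (Sum.inr 1) + v (Sum.inr 2)) * h2
  · linear_combination (v (Sum.inr 1) + v (Sum.inl 1) + v (Sum.inr 2) + v (Sum.inl 2)) * h2
  · linear_combination (v (Sum.inr 1) + v (Sum.inr 2) + v (Sum.inl 2)) * h2
  · linear_combination (v (Sum.inr 1) + v (Sum.inl 1)) * h2
  · linear_combination (v (Sum.inr 2)) * h2

end cyc

namespace Setup

variable {F : Type u} [Field F] [Finite F] {ι : Type} [Fintype ι] [DecidableEq ι] {P : Subgroup (GL ι F)}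
  {K : Type} [Field K] [Finite K] {p : ℕ} [hp : Fact p.Prime] [hFp : CharP F p] [hKp : CharP K p]
  {Y : Type w} [Group Y] [Finite Y] {f : Y →* (KInstSp.model 3 K).I} {φ : Y →* GL ι F} {n₁ : Fin 3 → Y}
  (s : Setup 3 K p P f φ n₁) {σ : Fin 3 → SL(2, K) →* Y} (hσ : IsSig f σ)
include s hσ

/-- **The lifts** of the cyclic permutation of the planes and of `gl`. -/
theorem exists_cyc (h2 : (2 : K) = 0) : ∃ c g : Y, c * g = g * (σ 1 st * σ 2 st) ∧ c * (c * c) = 1 ∧
    ∀ (i : Fin 3) (x : SL(2, K)), c * σ i x = σ (i + 1) x * c := by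
  obtain ⟨g₀, hg₀⟩ := exists_gl h2
  obtain ⟨g, hg⟩ := s.C.surj g₀
  set u := σ 1 st * σ 2 st with hu
  have hcomm : σ 1 st * σ 2 st = σ 2 st * σ 1 st := s.comm hσ (by decide) st st
  have hu3 : u * (u * u) = 1 := by
    have h1 : Commute (σ 1 st) (σ 2 st) := hcomm
    have h2 : u ^ 3 = 1 := by
      rw [hu, h1.mul_pow, ← map_pow, ← map_pow, pow_three, st_cube, map_one, map_one, mul_one]
    rwa [pow_three] at h2
  refine ⟨g * u * g⁻¹, g, by group, ?_, ?_⟩
  · calc g * u * g⁻¹ * (g * u * g⁻¹ * (g * u * g⁻¹)) = g * (u * (u * u)) * g⁻¹ := by group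
      _ = 1 := by rw [hu3, mul_one, mul_inv_cancel]
  · have hb : ∀ (i : Fin 3) (b : Bool), (f (g * u * g⁻¹)).1 ((SpIdent.frame 3 K).b (i, b)) =
        (SpIdent.frame 3 K).b (i + 1, b) := by
      intro i b
      have e1 : f (g * u * g⁻¹) = g₀ * f u * g₀⁻¹ := by rw [map_mul, map_mul, map_inv, hg]
      have e2 : ∀ v, (f u).1 v = phiL (SpIdent.frame 3 K) 1 st (phiL (SpIdent.frame 3 K) 2 st v) := by
        intro v
        rw [← hσ 1 st, ← hσ 2 st, hu, map_mul]
        rfl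
      have e3 : (f (g * u * g⁻¹)).1 ((SpIdent.frame 3 K).b (i, b)) =
          g₀.1 ((f u).1 (g₀⁻¹.1 ((SpIdent.frame 3 K).b (i, b)))) := by
        rw [e1]; rfl
      have e4 : g₀.1 (g₀⁻¹.1 ((SpIdent.frame 3 K).b (i, b))) = (SpIdent.frame 3 K).b (i, b) := by
        change (g₀ * g₀⁻¹).1 ((SpIdent.frame 3 K).b (i, b)) = _
        rw [mul_inv_cancel]; rfl
      rw [e3, e2, hg₀, glf_st h2, ← hg₀, e4, cyf_b]
    intro i x
    have h1 := s.conj hσ (y := g * u * g⁻¹) (i := i) (j := i + 1) (c := 1) (c' := 1) (mul_one 1)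
      (by rw [hb, one_smul]) (by rw [hb, one_smul]) x
    rw [← h1]
    group

end Setup

end Cfsg.Agent.H532.EP
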