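import Cfsg.Agent.H532.EP.Node

/-!
# S3499, VII13-PSp: the long root `SL_2`'s in the covering group (helper532)

* `hom_ext` : lifts of homomorphisms of `SL_2(K)` are unique;
* `conj_phiL` : conjugation of the long root `SL_2`'s by isometries;
* `Sig` : the lifts `σ i` of the long root `SL_2`'s; `Sig.conj`, `Sig.comm`, `Sig.comm_root`, `Sig.swap`.
-/

set_option autoImplicit false
set_option linter.unusedSectionVars false
set_option linter.style.haveILetI false

namespace Cfsg.Agent.H532.EP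

open CoxeterSystem Cfsg.Agent.ChevalleyStructure.CoxeterGeom Cfsg.Agent.Tits.Roots Cfsg.Agent.Tits.Core
  Cfsg.Agent.Nodes.Reps Cfsg.Agent.Nodes.BNOf Cfsg.Agent.Nodes.Bruhat Cfsg.Agent.Nodes.RGDLib
open Cfsg.Agent.Nodes Cfsg.Agent.Nodes.WittRoot Cfsg.Agent.Nodes.WittRGD Cfsg.Agent.Nodes.WittAll
open Cfsg.Agent.Nodes.TypeC (isCartan wt ee nx ng Ok)
open Cfsg.Agent.TitsThree Cfsg.Agent.TitsThree.Siegel Cfsg.Agent.TitsThree.WittFrame Cfsg.Agent.TitsThree.FrameCN
open Cfsg.Agent.TitsThree.WittWeyl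
open Cfsg.Agent.H915.LD Cfsg.Agent.H911 Cfsg.Agent.H905.Md Cfsg.Agent.H925.Nat Cfsg.Agent.Nodes.RGDLift
open Cfsg.Agent.H156.Ppd (Cov lrep)
open Cfsg.Agent.H948.Ppd (TB XB NB JB dB)
open Cfsg.Agent.Omega.CR Cfsg.Agent.Omega.FOne.Lift.Sd
open Cfsg.Agent.H62.FrameSL (phiL phiL_range phiL_apply linL_apply phiL_up phiL_lo phiL_e phiL_f)
open Cfsg.Agent.H911.SLTwo (U Lo hh ww U_pow U_zero Lo_zero)
open Cfsg Cfsg.Geo
open scoped MatrixGroups Matrix

universe u v w

/-! ### uniqueness of lifts -/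

section uniq

variable {Y : Type w} {G : Type v} [Group Y] [Finite Y] [Group G] {f : Y →* G} {p : ℕ} [hp : Fact p.Prime]
  (hf : f.ker ≤ Subgroup.center Y) (hcop : (Nat.card f.ker).Coprime p) {K : Type*} [Field K] [CharP K p]
include hf hcop

theorem eq_of_pow {x y : Y} (h : f x = f y) (hx : x ^ p = 1) (hy : y ^ p = 1) : x = y := by
  have h1 : x * y⁻¹ ∈ f.ker := by rw [MonoidHom.mem_ker, map_mul, map_inv, h, mul_inv_cancel]
  have h2 : Commute (x * y⁻¹) y := (Subgroup.mem_center_iff.1 (hf h1) y).symm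
  have h3 : (x * y⁻¹) ^ p ^ 1 = 1 := by
    rw [pow_one]
    have h4 : x ^ p = (x * y⁻¹) ^ p * y ^ p := by rw [← h2.mul_pow, inv_mul_cancel_right]
    rw [hx, hy, mul_one] at h4
    exact h4.symm
  exact mul_inv_eq_one.1 (eq_one_of_ker hcop h1 h3)

/-- **Uniqueness of lifts.** -/
theorem hom_ext {σ σ' : SL(2, K) →* Y} (h : ∀ x, f (σ x) = f (σ' x)) (x : SL(2, K)) : σ x = σ' x := by
  have key : ∀ x : SL(2, K), x ^ p = 1 → σ x = σ' x := fun x hx =>
    eq_of_pow hf hcop (h x) (by rw [← map_pow, hx, map_one]) (by rw [← map_pow, hx, map_one])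
  have h1 := H650.Ppd.mem_of_UL (H := MonoidHom.eqLocus σ σ') (fun t => key _ (by
    rw [U_pow, CharP.cast_eq_zero, zero_mul, U_zero])) (fun t => key _ (by
    rw [H948.Ppd.Lo_pow, CharP.cast_eq_zero, zero_mul, Lo_zero])) x
  exact h1

theorem conj_ext {σ σ' : SL(2, K) →* Y} {y : Y} (h : ∀ x, f y * f (σ x) * (f y)⁻¹ = f (σ' x)) (x : SL(2, K)) :
    y * σ x * y⁻¹ = σ' x := by
  refine hom_ext hf hcop (σ := (MulAut.conj y).toMonoidHom.comp σ) (σ' := σ') (fun x => ?_) x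
  rw [← h x]
  change f (y * σ x * y⁻¹) = _
  simp only [map_mul, map_inv]

end uniq

/-! ### the frame -/

section frame

variable {K : Type*} [Field K] {V : Type*} [AddCommGroup V] [Module K V] {H : HForm K V} {n : ℕ} {Fr : Frame H (Fin n)}

theorem conj_phiL {g : V ≃ₗ[K] V} (hg : H.IsIso g) {i j : Fin n} {c : K} (hc : c * c = 1) (hσ : H.σ c = c)
    (ht : g (Fr.b (i, true)) = c • Fr.b (j, true)) (hf : g (Fr.b (i, false)) = c • Fr.b (j, false)) (x : SL(2, K)) :
    g * phiL Fr i x * g⁻¹ = phiL Fr j x := by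
  ext1 v
  change g (phiL Fr i x (g⁻¹ v)) = phiL Fr j x v
  have e0 : g (g⁻¹ v) = v := g.apply_symm_apply v
  have e1 : H.h (g⁻¹ v) (Fr.b (i, true)) = c * H.h v (Fr.b (j, true)) := by
    rw [← hg (g⁻¹ v) (Fr.b (i, true)), e0, ht, H.smul_right, hσ]
  have e2 : H.h (g⁻¹ v) (Fr.b (i, false)) = c * H.h v (Fr.b (j, false)) := by
    rw [← hg (g⁻¹ v) (Fr.b (i, false)), e0, hf, H.smul_right, hσ]
  rw [phiL_apply, phiL_apply, linL_apply, linL_apply, map_add, map_add, map_smul, map_smul, ht, hf, e0, e1, e2]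
  match_scalars
  · ring
  · linear_combination ((x.1 0 0 - 1) * H.h v (Fr.b (j, false)) + x.1 0 1 * (H.ε⁻¹ * H.h v (Fr.b (j, true)))) * hc
  · linear_combination (x.1 1 0 * H.h v (Fr.b (j, false)) + (x.1 1 1 - 1) * (H.ε⁻¹ * H.h v (Fr.b (j, true)))) * hc

end frame

section sp

variable {l : ℕ} {K : Type} [Field K]

theorem phiL_mem (i : Fin l) (x : SL(2, K)) : phiL (SpIdent.frame l K) i x ∈ (KInstSp.model l K).I := by
  have h1 : (phiL (SpIdent.frame l K) i).range ≤ (KInstSp.model l K).I := by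
    rw [phiL_range]
    refine sup_le ?_ ?_
    · rintro _ ⟨q, rfl⟩
      exact (SpIdent.frame l K).isIso_Z _ _
    · rintro _ ⟨q, rfl⟩
      exact (SpIdent.frame l K).isIso_Z _ _
  exact h1 ⟨x, rfl⟩

/-- conjugation by monomial isometries -/
theorem conj_phiL_sp {g : (Fin l ⊕ Fin l → K) ≃ₗ[K] (Fin l ⊕ Fin l → K)} (hg : g ∈ (KInstSp.model l K).I)
    {i j : Fin l} {c c' : K} (hc : c * c = 1)
    (ht : g ((SpIdent.frame l K).b (i, true)) = c • (SpIdent.frame l K).b (j, true))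
    (hf : g ((SpIdent.frame l K).b (i, false)) = c' • (SpIdent.frame l K).b (j, false)) (x : SL(2, K)) :
    g * phiL (SpIdent.frame l K) i x * g⁻¹ = phiL (SpIdent.frame l K) j x := by
  have hg' : (SpIdent.form l K).IsIso g := hg
  have h1 := hg' ((SpIdent.frame l K).b (i, true)) ((SpIdent.frame l K).b (i, false))
  rw [ht, hf, (SpIdent.form l K).smul_left, (SpIdent.form l K).smul_right, H62.FrameSL.ht, H62.FrameSL.ht] at h1
  have h2 : c * c' = 1 := by
    have : c * (c' * 1) = 1 := h1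
    rwa [mul_one] at this
  have h3 : c' = c := by
    have : c * (c' - c) = 0 := by linear_combination h2 - hc
    have hc0 : c ≠ 0 := fun h => by rw [h, zero_mul] at hc; exact zero_ne_one hc
    exact sub_eq_zero.1 ((mul_eq_zero.1 this).resolve_left hc0)
  rw [h3] at hf
  exact conj_phiL hg' hc rfl ht hf x

/-- an isometry which fixes the plane `i` commutes with `phiL i` -/
theorem comm_phiL_sp {g : (Fin l ⊕ Fin l → K) ≃ₗ[K] (Fin l ⊕ Fin l → K)} (hg : g ∈ (KInstSp.model l K).I)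
    {i : Fin l} (h : ∀ s, g ((SpIdent.frame l K).b (i, s)) = (SpIdent.frame l K).b (i, s)) (x : SL(2, K)) :
    g * phiL (SpIdent.frame l K) i x * g⁻¹ = phiL (SpIdent.frame l K) i x :=
  conj_phiL_sp hg (c := 1) (c' := 1) (mul_one 1) (by rw [h, one_smul]) (by rw [h, one_smul]) x

theorem phiL_fix {i j : Fin l} (hij : i ≠ j) (s : Bool) (x : SL(2, K)) :
    phiL (SpIdent.frame l K) i x ((SpIdent.frame l K).b (j, s)) = (SpIdent.frame l K).b (j, s) := by
  rw [phiL_apply, linL_apply, H62.FrameSL.hn _ hij.symm, H62.FrameSL.hn _ hij.symm]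
  simp

/-- root elements which do not involve the plane `i` -/
theorem PG_fix {a b : Fin l × Bool} (hab : Ok a b) {i : Fin l} (ha : a.1 ≠ i) (hb : b.1 ≠ i)
    {g : (Fin l ⊕ Fin l → K) ≃ₗ[K] (Fin l ⊕ Fin l → K)} (hg : g ∈ PG (SpIdent.frame l K) a b) (s : Bool) :
    g ((SpIdent.frame l K).b (i, s)) = (SpIdent.frame l K).b (i, s) := by
  rcases hab with h | rfl
  · rw [PG_ne _ h] at hg
    obtain ⟨t, rfl⟩ := hg
    refine X_apply_of_ne _ h ?_ ?_ t
    · intro e
      exact ha (congrArg Prod.fst e).symm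
    · intro e
      exact hb (congrArg Prod.fst e).symm
  · rw [PG_self] at hg
    obtain ⟨q, rfl⟩ := hg
    refine Z_apply_of_ne _ ?_ q
    intro e
    exact ha (congrArg Prod.fst e).symm

/-- the first vectors under the Weyl elements -/
theorem nn_up {k : Fin l} (hk : (k : ℕ) + 1 < l) (p0 : (SpIdent.frame l K).Adm) :
    nn (SpIdent.frame l K) p0 k ((SpIdent.frame l K).b (k, true)) =
      (-1 : K) • (SpIdent.frame l K).b (⟨k + 1, hk⟩, true) := by
  have hnx : nx k = (⟨k + 1, hk⟩, false) := by unfold nx; rw [dif_pos hk]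
  have hne : ((k, true) : Fin l × Bool).1 ≠ (nx k).1 := by rw [hnx]; simp [Fin.ext_iff]
  unfold WittRGD.nn
  rw [if_pos hk, nX_apply_self _ hne one_ne_zero, hnx, inv_one, one_smul, neg_smul, one_smul]
  rfl

theorem nn_down {k : Fin l} (hk : (k : ℕ) + 1 < l) (p0 : (SpIdent.frame l K).Adm) :
    nn (SpIdent.frame l K) p0 k ((SpIdent.frame l K).b (⟨k + 1, hk⟩, true)) =
      (1 : K) • (SpIdent.frame l K).b (k, true) := by
  have hnx : nx k = (⟨k + 1, hk⟩, false) := by unfold nx; rw [dif_pos hk]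
  have hne : ((k, true) : Fin l × Bool).1 ≠ (nx k).1 := by rw [hnx]; simp [Fin.ext_iff]
  have h1 := nX_apply_neg (SpIdent.frame l K) hne (one_ne_zero (α := K))
  unfold WittRGD.nn
  rw [if_pos hk, ← h1, hnx]
  rfl

theorem nn_fix {k : Fin l} (hk : (k : ℕ) + 1 < l) (p0 : (SpIdent.frame l K).Adm) {j : Fin l} (h1 : j ≠ k)
    (h2 : (j : ℕ) ≠ k + 1) (s : Bool) :
    nn (SpIdent.frame l K) p0 k ((SpIdent.frame l K).b (j, s)) = (SpIdent.frame l K).b (j, s) := by
  have hnx : nx k = (⟨k + 1, hk⟩, false) := by unfold nx; rw [dif_pos hk]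
  have hne : ((k, true) : Fin l × Bool).1 ≠ (nx k).1 := by rw [hnx]; simp [Fin.ext_iff]
  unfold WittRGD.nn
  rw [if_pos hk]
  exact nX_apply_of_ne _ hne h1 (by rw [hnx]; exact fun e => h2 (congrArg Fin.val e)) _

/-- the long positive roots -/
theorem nonneg_of_ee {z : Fin l → ℤ} {i : Fin l} (hz : ee z = wt (i, true) + wt (i, true)) : 0 ≤ z := by
  intro m
  have key : ∑ k ∈ Finset.Iic m, ee z k = (if (m : ℕ) + 1 < l then 1 else 2) * z m := by
    have h1 : ∀ k, ee z k = ∑ j, z j * TypeC.bt j k := by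
      intro k
      simp [ee, Finset.sum_apply]
    simp only [h1]
    rw [Finset.sum_comm]
    simp only [← Finset.mul_sum, TypeC.sum_bt]
    rw [Finset.sum_eq_single m]
    · simp only [if_true]
      split_ifs <;> ring
    · intro j _ hj
      simp [Ne.symm hj]
    · simp
  rw [hz] at key
  have h2 : 0 ≤ ∑ k ∈ Finset.Iic m, (wt (i, true) + wt (i, true)) k := by
    refine Finset.sum_nonneg fun k _ => ?_
    rw [Pi.add_apply, TypeC.wt_apply]
    simp only [if_true]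
    split_ifs <;> norm_num
  rw [key] at h2
  change (0 : ℤ) ≤ z m
  split_ifs at h2 <;> linarith

end sp

/-! ### the lifts -/

/-- `σ i` lifts the long root `SL_2` of the plane `i` -/
def IsSig {l : ℕ} {K : Type} [Field K] {Y : Type w} [Group Y] (f : Y →* (KInstSp.model l K).I)
    (σ : Fin l → SL(2, K) →* Y) : Prop :=
  ∀ i x, ((f (σ i x) : (KInstSp.model l K).I) : (Fin l ⊕ Fin l → K) ≃ₗ[K] (Fin l ⊕ Fin l → K)) =
    phiL (SpIdent.frame l K) i x

namespace Setup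

variable {F : Type u} [Field F] [Finite F] {ι : Type} [Fintype ι] [DecidableEq ι] {P : Subgroup (GL ι F)}
  {K : Type} [Field K] [Finite K] {p : ℕ} [hp : Fact p.Prime] [hFp : CharP F p] [hKp : CharP K p] {l : ℕ}
  {Y : Type w} [Group Y] [Finite Y] {f : Y →* (KInstSp.model l K).I} {φ : Y →* GL ι F} {n₁ : Fin l → Y}
  (s : Setup l K p P f φ n₁)
include s

theorem exists_sig : ∃ σ : Fin l → SL(2, K) →* Y, IsSig f σ := by
  have h : ∀ i : Fin l, ∃ σ : SL(2, K) →* Y, ∀ x,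
      f (σ x) = ((phiL (SpIdent.frame l K) i).codRestrict (KInstSp.model l K).I (phiL_mem i)) x := fun i =>
    H948.Ppd.exists_lift_hom s.C.ker s.C.cop s.C.surj _
  choose σ hσ using h
  exact ⟨σ, fun i x => congrArg Subtype.val (hσ i x)⟩

variable {σ : Fin l → SL(2, K) →* Y} (hσ : IsSig f σ)
include hσ

theorem conj {y : Y} {i j : Fin l} {c c' : K} (hc : c * c = 1)
    (ht : (f y).1 ((SpIdent.frame l K).b (i, true)) = c • (SpIdent.frame l K).b (j, true))
    (hf : (f y).1 ((SpIdent.frame l K).b (i, false)) = c' • (SpIdent.frame l K).b (j, false)) (x : SL(2, K)) :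
    y * σ i x * y⁻¹ = σ j x := by
  refine conj_ext s.C.ker s.C.cop (σ := σ i) (σ' := σ j) (fun x => ?_) x
  apply Subtype.ext
  rw [hσ j x, ← conj_phiL_sp (f y).2 hc ht hf x, ← hσ i x]
  rfl

theorem comm_of_fix {y : Y} {i : Fin l}
    (h : ∀ t, (f y).1 ((SpIdent.frame l K).b (i, t)) = (SpIdent.frame l K).b (i, t)) (x : SL(2, K)) :
    y * σ i x = σ i x * y := by
  have h1 := s.conj hσ (y := y) (i := i) (j := i) (c := 1) (c' := 1) (mul_one 1) (by rw [h, one_smul])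
    (by rw [h, one_smul]) x
  rw [mul_inv_eq_iff_eq_mul] at h1
  exact h1

theorem comm {i j : Fin l} (hij : i ≠ j) (x x' : SL(2, K)) : σ i x * σ j x' = σ j x' * σ i x :=
  s.comm_of_fix hσ (fun t => by rw [hσ i x]; exact phiL_fix hij t x) x'

theorem comm_root {a b : Fin l × Bool} (hab : Ok a b) {z : Fin l → ℤ} (hz : ee z = wt a + wt b) {i : Fin l}
    (ha : a.1 ≠ i) (hb : b.1 ≠ i) {u : Y} (hu : u ∈ lft p f (XB (KInstSp.model l K) z)) (x : SL(2, K)) :
    u * σ i x = σ i x * u := by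
  have h1 : f u ∈ XB (KInstSp.model l K) z := map_lft_le p f _ (Subgroup.mem_map_of_mem f hu)
  have h2 : (f u).1 ∈ Nodes.WittRoot.rg (SpIdent.frame l K) z := h1
  rw [rg_eq _ hab hz] at h2
  exact s.comm_of_fix hσ (fun t => PG_fix hab ha hb h2 t) x

theorem fn (k : Fin l) : ((f (n₁ k)) : (KInstSp.model l K).I).1 = nn (SpIdent.frame l K) (SpIdent.adm (1 : K)) k := by
  rw [s.C.hn k]

theorem swap_down {k : Fin l} (hk : (k : ℕ) + 1 < l) (x : SL(2, K)) :
    n₁ k * σ ⟨k + 1, hk⟩ x * (n₁ k)⁻¹ = σ k x := by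
  obtain ⟨c', -, h⟩ := mono_nn (Fr := SpIdent.frame l K) (hp0sp l K) k (⟨k + 1, hk⟩, false)
  rw [TypeC.sg_down hk] at h
  exact s.conj hσ (c := 1) (c' := c') (mul_one 1) (by rw [s.fn hσ, nn_down hk]) (by rw [s.fn hσ]; exact h) x

theorem swap_up {k : Fin l} (hk : (k : ℕ) + 1 < l) (x : SL(2, K)) :
    n₁ k * σ k x * (n₁ k)⁻¹ = σ ⟨k + 1, hk⟩ x := by
  obtain ⟨c', -, h⟩ := mono_nn (Fr := SpIdent.frame l K) (hp0sp l K) k (k, false)
  rw [TypeC.sg_up hk] at h
  exact s.conj hσ (c := -1) (c' := c') (by ring) (by rw [s.fn hσ, nn_up hk]) (by rw [s.fn hσ]; exact h) x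

theorem swap_fix {k : Fin l} (hk : (k : ℕ) + 1 < l) {j : Fin l} (h1 : j ≠ k) (h2 : (j : ℕ) ≠ k + 1) (x : SL(2, K)) :
    n₁ k * σ j x * (n₁ k)⁻¹ = σ j x := by
  rw [mul_inv_eq_iff_eq_mul]
  exact s.comm_of_fix hσ (fun t => by rw [s.fn hσ]; exact nn_fix hk _ h1 h2 t) x

/-- the unipotent elements are in `U` -/
theorem mem_U (i : Fin l) (t : K) : σ i (U t) ∈ RGD.Sup (fun x => lft p f (XB (KInstSp.model l K) x))
    (RGD.Pos (CoxeterMatrix.B l).toCoxeterSystem (isCartan l)) := by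
  obtain ⟨z, hz, hz'⟩ := TypeC.rt_of_ok (cs := (CoxeterMatrix.B l).toCoxeterSystem) (a := (i, true)) (b := (i, true))
    (Or.inr rfl)
  have h0 : z ∈ RGD.Pos (CoxeterMatrix.B l).toCoxeterSystem (isCartan l) := ⟨hz, nonneg_of_ee hz'⟩
  refine RGD.le_Sup (X := fun x => lft p f (XB (KInstSp.model l K) x)) h0 (Subgroup.subset_closure ⟨?_, 1, ?_⟩)
  · change ((f (σ i (U t)) : (KInstSp.model l K).I)).1 ∈ Nodes.WittRoot.rg (SpIdent.frame l K) z
    rw [rg_eq _ (Or.inr rfl) hz', PG_self, hσ]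
    exact ⟨_, phiL_up i t⟩
  · rw [pow_one, ← map_pow, U_pow, CharP.cast_eq_zero, zero_mul, U_zero, map_one]

/-- the Weyl element of the last plane -/
theorem rp_last {i : Fin l} (hi : ¬ (i : ℕ) + 1 < l) :
    Rp (CoxeterMatrix.B l).toCoxeterSystem s.C.rgd.nsys ((CoxeterMatrix.B l).toCoxeterSystem.simple i) (σ i ww) := by
  have h1 : (n₁ i)⁻¹ * σ i ww ∈ (TB (KInstSp.model l K)).comap f := by
    have h2 : Mono (SpIdent.frame l K) (phiL (SpIdent.frame l K) i ww) (TypeC.sg i) := by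
      rintro ⟨k, b⟩
      by_cases hk : k = i
      · subst hk
        rw [TypeC.sg_last hi]
        cases b
        · refine ⟨1, one_ne_zero, ?_⟩
          rw [phiL_f]
          simp [ww]
        · refine ⟨-1, neg_ne_zero.2 one_ne_zero, ?_⟩
          rw [phiL_e]
          simp [ww]
      · refine ⟨1, one_ne_zero, ?_⟩
        have hi' := i.2
        have hk' := k.2
        rw [TypeC.sg_of_ne hk (by intro e; simp only at e; omega), one_smul]
        exact phiL_fix (fun e => hk e.symm) b ww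
    have h3 := mono_nn (Fr := SpIdent.frame l K) (hp0sp l K) i
    change f ((n₁ i)⁻¹ * σ i ww) ∈ TB (KInstSp.model l K)
    rw [Subgroup.mem_subgroupOf]
    refine ⟨(f ((n₁ i)⁻¹ * σ i ww)).2, ?_⟩
    have h4 : (f ((n₁ i)⁻¹ * σ i ww)).1 = (nn (SpIdent.frame l K) (SpIdent.adm (1 : K)) i)⁻¹ *
        phiL (SpIdent.frame l K) i ww := by
      rw [map_mul, map_inv, ← s.fn hσ i, ← hσ i ww]
      rfl
    rw [h4]
    exact ((h3.inv (TypeC.sg_sg i)).mul h2).congr fun x => TypeC.sg_sg i x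
  have h5 := (rp_simple (CoxeterMatrix.B l).toCoxeterSystem s.C.rgd.nsys i).mul_mem_right h1
  rwa [mul_inv_cancel_left] at h5

/-- the step -/
theorem rp_step {k : Fin l} (hk : (k : ℕ) + 1 < l) {ω : List (Fin l)}
    (h : Rp (CoxeterMatrix.B l).toCoxeterSystem s.C.rgd.nsys
      ((CoxeterMatrix.B l).toCoxeterSystem.wordProd ω) (σ ⟨k + 1, hk⟩ ww)) :
    Rp (CoxeterMatrix.B l).toCoxeterSystem s.C.rgd.nsys
      ((CoxeterMatrix.B l).toCoxeterSystem.wordProd (k :: (ω ++ [k]))) (σ k ww) := by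
  have h1 := rp_simple (CoxeterMatrix.B l).toCoxeterSystem s.C.rgd.nsys k
  have h2 := (h1.mul h).mul h1.inv
  rw [s.swap_down hσ hk] at h2
  rw [CoxeterSystem.wordProd_cons, CoxeterSystem.wordProd_append, CoxeterSystem.wordProd_singleton, ← mul_assoc]
  rwa [CoxeterSystem.inv_simple] at h2

end Setup

end Cfsg.Agent.H532.EP
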