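import Cfsg.Agent.H650.Ppd.Psp

/-!
# S3499, VII13-PSp: the nodes for `PSp_2l(K)`, `|K| = |F|` (helper532)

* `Setup` : the covering group for `PSp_2l(K)`; **`exists_setup`**;
* **`Setup.cases`** : `l ≥ 3`, `13 ≤ |ι| < 4 l + 2`: natural, or `l = 3`, `|ι| = 13`, or `l = 4`, `|ι| = 16, 17` and the
  last node is the only node outside `J`.
-/

set_option autoImplicit false
set_option linter.unusedSectionVars false
set_option linter.style.haveILetI false

namespace Cfsg.Agent.H532.EP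

open CoxeterSystem Cfsg.Agent.ChevalleyStructure.CoxeterGeom Cfsg.Agent.Tits.Roots Cfsg.Agent.Tits.Core
  Cfsg.Agent.Nodes.Reps Cfsg.Agent.Nodes.BNOf Cfsg.Agent.Nodes.Bruhat Cfsg.Agent.Nodes.RGDLib
open Cfsg.Agent.Nodes Cfsg.Agent.Nodes.WittRoot Cfsg.Agent.Nodes.WittRGD Cfsg.Agent.Nodes.WittAll
open Cfsg.Agent.Nodes.TypeC (isCartan)
open Cfsg.Agent.TitsThree Cfsg.Agent.TitsThree.Siegel Cfsg.Agent.TitsThree.WittFrame Cfsg.Agent.TitsThree.FrameCN
open Cfsg.Agent.H915.LD Cfsg.Agent.H911 Cfsg.Agent.H905.Md Cfsg.Agent.H925.Nat Cfsg.Agent.Nodes.RGDLift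
open Cfsg.Agent.H156.Ppd (Cov lrep)
open Cfsg.Agent.H948.Ppd (TB XB NB exists_covB identify_B lift_nd lift_comm_pow JB dB)
open Cfsg.Agent.Omega.CR Cfsg.Agent.Omega.FOne.Lift.Sd
open Cfsg Cfsg.Geo
open Cfsg.Agent.H650.Ppd (nd_Sp)
open scoped MatrixGroups Matrix

universe u v w

/-- the ambient group of the symplectic frame -/
abbrev hAsp (l : ℕ) (K : Type) [Field K] (p : ℕ) [Fact p.Prime] [CharP K p] :
    AmbT (SpIdent.frame l K) p (KInstSp.model l K).I := AmbT.of_amb Nodes.WittU.amb_Sp p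

theorem hp0sp (l : ℕ) (K : Type) [Field K] : (SpIdent.adm (m := l) (1 : K)).c ≠ 0 := one_ne_zero

/-- **The covering group for `PSp_2l(K)`.** -/
structure Setup (l : ℕ) (K : Type) [Field K] [Finite K] (p : ℕ) [Fact p.Prime] [CharP K p] {F : Type u} [Field F]
    [Finite F] [CharP F p] {ι : Type} [Fintype ι] [DecidableEq ι] (P : Subgroup (GL ι F)) {Y : Type w} [Group Y]
    [Finite Y] (f : Y →* (KInstSp.model l K).I) (φ : Y →* GL ι F) (n₁ : Fin l → Y) : Prop where
  core : Core P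
  C : Cov (CoxeterMatrix.B l).toCoxeterSystem (isCartan l) p (TB (KInstSp.model l K))
    (NB (hAsp l K p) (SpIdent.adm (1 : K))) (XB (KInstSp.model l K)) P f φ n₁
  T : ∀ s ∈ (TB (KInstSp.model l K)).comap f, ∀ t ∈ (TB (KInstSp.model l K)).comap f, s * t = t * s
  N : ∀ i, ∃ σ : SL(2, K) →* Y, H948.Ppd.Nd ((TB (KInstSp.model l K)).comap f)
      (fun x => lft p f (XB (KInstSp.model l K) x)) i σ

section

variable {F : Type u} [Field F] [Finite F] {ι : Type} [Fintype ι] [DecidableEq ι] {P : Subgroup (GL ι F)}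
  {K : Type} [Field K] [Finite K] {p : ℕ} [hp : Fact p.Prime] [hFp : CharP F p] [hKp : CharP K p] {l : ℕ}

theorem exists_setup (hC : Core P) (hl : 3 ≤ l) (e : Soc P ≃* PSp l K) :
    ∃ (Y : Type u) (_ : Group Y) (_ : Finite Y) (f : Y →* (KInstSp.model l K).I) (φ : Y →* GL ι F) (n₁ : Fin l → Y),
      Setup l K p P f φ n₁ := by
  haveI := hC.nonempty
  have hWf : Finite (CoxeterMatrix.B l).Group := TypeC.finite_W (CoxeterMatrix.B l).toCoxeterSystem
  have hA := hAsp l K p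
  have hp0 := hp0sp l K
  have hperf : commutator ↥(KInstSp.model l K).I = ⊤ := commutator_isos hl
  obtain ⟨Y, i1, i2, f, φ, n₁, C⟩ := exists_covB hC hA hp0 (by omega) hperf e
  have hrg : ∀ x, Nodes.WittRoot.rg (SpIdent.frame l K) x ≤ (KInstSp.model l K).I := fun x => hA.rg_le x
  have hT' : ∀ s ∈ TB (KInstSp.model l K), ∀ t ∈ TB (KInstSp.model l K), s * t = t * s := by
    intro s hs t ht
    apply Subtype.ext
    exact torus_comm hA.V0 (Or.inl rfl) (hA.iso _ s.2) (hA.iso _ t.2) hs.2 ht.2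
  have hnd : ∀ i, ∃ σ' : SL(2, K) →* (KInstSp.model l K).I,
      H948.Ppd.Nd (TB (KInstSp.model l K)) (XB (KInstSp.model l K)) i σ' := by
    intro i
    obtain ⟨σ, h⟩ := nd_Sp (G0 := (KInstSp.model l K).I) hrg i
    exact ⟨σ, h.up, h.lo, h.tor⟩
  obtain ⟨hT, -⟩ := lift_comm_pow (N₀ := Nat.card K) C hp0 hT' (fun i => by
    obtain ⟨σ', h⟩ := hnd i
    refine ⟨K, inferInstance, inferInstance, inferInstance, σ', h, fun x => ?_⟩
    have := Fintype.ofFinite K
    rw [Nat.card_eq_fintype_card, FiniteField.pow_card])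
  refine ⟨Y, i1, i2, f, φ, n₁, hC, C, hT, fun i => ?_⟩
  obtain ⟨σ', h⟩ := hnd i
  obtain ⟨σ, -, h'⟩ := lift_nd C hp0 h
  exact ⟨σ, h'⟩

end

/-! ### numbers -/

theorem two_pow_ge {l : ℕ} (hl : 5 ≤ l) : 4 * l + 2 ≤ 2 ^ l := by
  induction l, hl using Nat.le_induction with
  | base => norm_num
  | succ l hl ih => rw [pow_succ]; omega

theorem choose_ge {l k : ℕ} (hl : 4 ≤ l) (h2 : 2 ≤ k) (hk : k ≤ l) (h : l = 4 → k < 4) :
    4 * l + 2 ≤ l.choose k * 2 ^ k := by
  rcases Nat.lt_or_eq_of_le hk with h3 | h3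
  · rcases Nat.lt_or_eq_of_le h2 with h4 | h4
    · have h5 := H948.Ppd.TypeB.le_choose (by omega : 1 ≤ k) h3
      have h6 : 2 ^ 3 ≤ 2 ^ k := Nat.pow_le_pow_right (by norm_num) h4
      calc 4 * l + 2 ≤ l * 2 ^ 3 := by omega
        _ ≤ _ := Nat.mul_le_mul h5 h6
    · subst h4
      have h5 : l.choose 2 * 2 = l * (l - 1) := by
        rw [Nat.choose_two_right]
        exact Nat.div_mul_cancel (Nat.even_mul_pred_self l).two_dvd
      have h6 : l * 3 ≤ l * (l - 1) := Nat.mul_le_mul_left _ (by omega)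
      omega
  · subst h3
    rw [Nat.choose_self, one_mul]
    exact two_pow_ge (by omega)

/-- representatives of 18 vertices of type `{0, 3}` in `B_4` -/
def words : List (List (Fin 4)) := [[], [0], [3], [0, 1], [0, 3], [3, 2], [0, 1, 2], [0, 1, 3], [0, 3, 2], [3, 2, 1],
  [3, 2, 3], [0, 1, 2, 3], [0, 1, 3, 2], [0, 3, 2, 1], [0, 3, 2, 3], [3, 2, 1, 0], [3, 2, 1, 3], [0, 1, 2, 3, 2]]

namespace Setup

variable {F : Type u} [Field F] [Finite F] {ι : Type} [Fintype ι] [DecidableEq ι] {P : Subgroup (GL ι F)}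
  {K : Type} [Field K] [Finite K] {p : ℕ} [hp : Fact p.Prime] [hFp : CharP F p] [hKp : CharP K p] {l : ℕ}
  {Y : Type w} [Group Y] [Finite Y] {f : Y →* (KInstSp.model l K).I} {φ : Y →* GL ι F} {n₁ : Fin l → Y}
  (s : Setup l K p P f φ n₁)
include s

theorem two_le (hK : Nat.card K = Nat.card F) {i : Fin l} (hi : i ∉ JB (KInstSp.model l K) p f φ) :
    2 ≤ dB (KInstSp.model l K) p f φ i := by
  obtain ⟨σ, N⟩ := s.N i
  obtain ⟨m, hm, h⟩ := H948.Ppd.edge_pow_B s.core s.C s.T hi N (s := 1) (by rw [pow_one, hK])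
  rw [h, pow_one]
  exact hm

/-- **The cases.** -/
theorem cases (hl : 3 ≤ l) (hK : Nat.card K = Nat.card F) (h13 : 13 ≤ Fintype.card ι)
    (hlt : Fintype.card ι < 4 * l + 2) :
    CjOf (spGL l F) P ∨
      (l = 3 ∧ Fintype.card ι = 13 ∧ ∃ i : Fin l, 1 ≤ (i : ℕ) ∧ i ∉ JB (KInstSp.model l K) p f φ) ∨
      (l = 4 ∧ (Fintype.card ι = 16 ∨ Fintype.card ι = 17) ∧ ∃ i : Fin l, (i : ℕ) = 3 ∧
        i ∉ JB (KInstSp.model l K) p f φ ∧ dB (KInstSp.model l K) p f φ i ≤ 2 ∧
        ∀ i : Fin l, i ∉ JB (KInstSp.model l K) p f φ → (i : ℕ) = 3) := by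
  obtain ⟨i₀, hi₀⟩ := H948.Ppd.exists_node s.core s.C s.T
  by_cases hall : ∀ i : Fin l, i ∉ JB (KInstSp.model l K) p f φ → (i : ℕ) = 0
  · left
    have h0 := hall i₀ hi₀
    obtain ⟨ε, h1, h2⟩ := H948.Ppd.bound_first s.core s.C s.T (by omega) h0 hi₀
    have hε : ε = 0 := by
      by_contra hne
      have h3 : 2 * l * (l - 1) ≤ 2 * l * (l - 1) * ε := Nat.le_mul_of_pos_right _ (Nat.pos_of_ne_zero hne)
      rcases Nat.lt_or_ge l 4 with h4 | h4
      · obtain rfl : l = 3 := by omega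
        omega
      · have h5 : 2 * l * 3 ≤ 2 * l * (l - 1) := Nat.mul_le_mul_left _ (by omega)
        omega
    obtain ⟨τ, θ, hθ⟩ := identify_B s.core (hAsp l K p) (hp0sp l K) (by omega)
      (span_of_matrixSet mem_spGL_iff' (H931.spGL_absIrreducible (by omega))) s.C s.T (o := i₀) h0
      (fun i hi => Fin.ext ((hall i hi).trans h0.symm)) (by rw [hε] at h1; exact h1)
    exact cjOf_of mem_spGL_iff' (map_spGL_glm τ l) hθ
  · push Not at hall
    obtain ⟨i, hi, hi0⟩ := hall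
    right
    have h2 := s.two_le hK hi
    have h3 := H948.Ppd.bound_all s.core s.C s.T hi
    have h4 : (l.choose (i + 1) * 2 ^ ((i : ℕ) + 1)) * 2 ≤ 2 * Fintype.card ι := (Nat.mul_le_mul_left _ h2).trans h3
    have hi' := i.2
    rcases Nat.lt_or_ge l 4 with h5 | h5
    · left
      obtain rfl : l = 3 := by omega
      exact ⟨rfl, by omega, i, by omega, hi⟩
    · right
      have key : ∀ k : Fin l, k ∉ JB (KInstSp.model l K) p f φ → (k : ℕ) ≠ 0 → l = 4 ∧ (k : ℕ) = 3 := by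
        intro k hk hk0
        have g2 := s.two_le hK hk
        have g3 := H948.Ppd.bound_all s.core s.C s.T hk
        have g4 : (l.choose (k + 1) * 2 ^ ((k : ℕ) + 1)) * 2 ≤ 2 * Fintype.card ι :=
          (Nat.mul_le_mul_left _ g2).trans g3
        have hk' := k.2
        by_contra hcon
        have := choose_ge h5 (by omega : 2 ≤ (k : ℕ) + 1) (by omega) (fun h => by omega)
        omega
      obtain ⟨rfl, hi3⟩ := key i hi hi0
      rw [hi3] at h3 h4
      have h6 : Nat.choose 4 (3 + 1) * 2 ^ (3 + 1) = 16 := by decide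
      rw [h6] at h3 h4
      refine ⟨rfl, by omega, i, hi3, hi, by omega, fun k hk => ?_⟩
      by_contra hk3
      rcases Nat.eq_zero_or_pos (k : ℕ) with hk0 | hk0
      · have hWf : Finite (CoxeterMatrix.B 4).Group := TypeC.finite_W (CoxeterMatrix.B 4).toCoxeterSystem
        have hne := s.core.nonempty
        have hchar : CharP (AlgebraicClosure F) p := charP_of_injective_algebraMap (algebraMap F _).injective p
        obtain ⟨hirr, hD⟩ := H948.Ppd.irr_B s.core s.C s.T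
        have g1 := H650.Ppd.dim_ge_list_two s.C.rgd hirr hk hi (fun e => by rw [e] at hk0; omega) words [] []
          (by obtain rfl : k = 0 := Fin.ext hk0; obtain rfl : i = 3 := Fin.ext hi3; decide)
          (by simp) (by simp)
        rw [hD, Module.finrank_fintype_fun_eq_card] at g1
        have g2 : words.length = 18 := by decide
        rw [g2] at g1
        simp only [List.length_nil] at g1
        omega
      · exact hk3 (key k hk (by omega)).2

end Setup

end Cfsg.Agent.H532.EP
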