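import Cfsg.Agent.H532.EP.Bound
import Cfsg.Agent.H532.EP.Num
import Cfsg.Agent.H12.EP.InstTwo
import Cfsg.Agent.H470.EPO.OwnBig

/-!
# S3499, VII13-PSp: socle `PSp_2d(2)`, own characteristic, `n ≥ 13` (helper532)

* `HTwo` : the case `d = 4`, `n = 16` (hypothesis, task of helper765);
* **`own_psp_two`** : `d ≥ 3`, `|K| = 2`;
* **`ownPSp_of`** : `OwnPSp`, from the case `|K| > 2`.
-/

set_option autoImplicit false
set_option linter.unusedSectionVars false

namespace Cfsg.Agent.H532.EP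

open Cfsg Cfsg.Geo Cfsg.Agent.H419.EP Cfsg.Agent.H284 Cfsg.Agent.H925.Nat Cfsg.Agent.H12.EP.BT Cfsg.Agent.H59.EP
  Cfsg.Agent.KFacts.RgdFilt Cfsg.Agent.H528.EP
open scoped MatrixGroups

/-- the case `Sp_8(2) < Ω_16^+(2)` -/
def HTwo : Prop := ∀ {Q : Type} [Group Q] [Finite Q] {A : Subgroup Q}
    {Γ : Subgroup (MulAut Q)} {ι : Type} [Fintype ι] [DecidableEq ι] {F : Type} [Field F] [Fintype F]
    {S P : Subgroup (GL ι F)}, Big A Γ S P → ∀ (K : Type) [Field K] [Fintype K], Fintype.card K = 2 →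
    Fintype.card F = 2 → Fintype.card ι = 16 → Nonempty (socle P ≃* Cfsg.PSp 4 K) → False

section big

variable {Q : Type} [Group Q] [Finite Q] {A : Subgroup Q} {Γ : Subgroup (MulAut Q)} {ι : Type} [Fintype ι]
    [DecidableEq ι] {F : Type} [Field F] [Fintype F] {S P : Subgroup (GL ι F)}

theorem simple_L (b : Big A Γ S P) {L : Type} [Group L] (e : socle P ≃* L) :
    IsSimpleGroup L ∧ ¬ ∀ x y : L, x * y = y * x := by
  have := b.core.simple
  refine ⟨e.symm.isSimpleGroup, fun h => ?_⟩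
  obtain ⟨x, y, hxy⟩ := Cfsg.Agent.H470.EPO.big_nab b
  apply hxy
  apply e.injective
  rw [map_mul, map_mul]
  exact h _ _

theorem card_sp_two {K : Type} [Field K] [Fintype K] (hK : Fintype.card K = 2) {d : ℕ} (hd : 3 ≤ d) :
    Nat.card (PSp d K) = 2 ^ (d ^ 2) * fam 4 d ∧ Nat.card (MulAut (PSp d K)) = Nat.card (PSp d K) := by
  have : Fact (Nat.Prime 2) := ⟨Nat.prime_two⟩
  have := charP_two hK
  refine ⟨?_, ?_⟩
  · have h1 := Cfsg.Agent.H321.Orders.psp_eq (F := K) (m := d) (by omega)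
    rw [hK, prB_two] at h1
    simpa using h1
  · have hAut := Cfsg.Agent.S0814.result (F := K) 2 1 le_rfl (by rw [hK]; norm_num) d (by omega) (by omega)
    rw [if_neg (by omega)] at hAut
    norm_num at hAut
    exact hAut

theorem card_A_le (b : Big A Γ S P) {K : Type} [Field K] [Fintype K] (hK : Fintype.card K = 2) {d : ℕ} (hd : 3 ≤ d)
    (e : socle P ≃* PSp d K) : Nat.card A ≤ 2 ^ (2 * d ^ 2 + d) := by
  have hfin : Finite (Cfsg.PSp d K) := Quotient.finite _
  obtain ⟨h1, h2⟩ := card_sp_two hK hd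
  have h3 := (b.hasSoc' e).card_le
  rw [h2, h1] at h3
  refine h3.trans ?_
  calc 2 ^ (d ^ 2) * fam 4 d ≤ 2 ^ (d ^ 2) * 2 ^ (d * (d + 1)) := Nat.mul_le_mul_left _ (fam_four_le d)
    _ = 2 ^ (2 * d ^ 2 + d) := by rw [← pow_add]; congr 1; ring

/-- `d ≥ 4` : numbers -/
theorem ub_false (b : Big A Γ S P) (hg : TwoGen.{0}) {K : Type} [Field K] [Fintype K] (hK : Fintype.card K = 2)
    {d : ℕ} (hd : 3 ≤ d) (e : socle P ≃* PSp d K) {j N : ℕ} (hj0 : 1 ≤ j) (hj : 2 * d ^ 2 + d ≤ 5 * 60 ^ j)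
    (hN : N ≤ Fintype.card ι) (hn : (4 + j) * (2 * d ^ 2 + d) ≤ N * (N - 1) / 2) : False := by
  obtain ⟨hL, hLn⟩ := simple_L b e
  have h1 := ub_psp_two b.simple b.ept hg hK hd (b.hasSoc' e) hL hLn hj0 hj
  have h2 := b.ord_two hN
  have h3 : Nat.card A ^ (4 + j) ≤ 2 ^ (N * (N - 1) / 2) := by
    calc Nat.card A ^ (4 + j) ≤ (2 ^ (2 * d ^ 2 + d)) ^ (4 + j) := Nat.pow_le_pow_left (card_A_le b hK hd e) _
      _ = 2 ^ ((4 + j) * (2 * d ^ 2 + d)) := by rw [← pow_mul]; congr 1; ring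
      _ ≤ _ := Nat.pow_le_pow_right (by norm_num) hn
  have h4 : 0 < 2 ^ (N * (N - 1) / 2) := by positivity
  omega

/-- `d = 3` -/
theorem three_false (b : Big A Γ S P) (hg : TwoGen.{0}) {K : Type} [Field K] [Fintype K] (hK : Fintype.card K = 2)
    (e : socle P ≃* PSp 3 K) (h14 : 14 ≤ Fintype.card ι) : False := by
  have : Fact (Nat.Prime 2) := ⟨Nat.prime_two⟩
  have hfin : Finite (Cfsg.PSp 3 K) := Quotient.finite _
  have := charP_two hK
  obtain ⟨hL, hLn⟩ := simple_L b e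
  obtain ⟨hc, hAut⟩ := card_sp_two (d := 3) hK le_rfl
  have hfam : fam 4 3 = 2835 := by decide
  rw [hfam] at hc
  norm_num at hc
  have hsoc := b.hasSoc' e
  have hd : Nat.card A ∣ 1451520 := by
    have := hasSoc_dvd hsoc
    rwa [hAut, hc] at this
  have hle : Nat.card A ≤ 1451520 := Nat.le_of_dvd (by norm_num) hd
  have hF : HasFilt 2 (Cfsg.PSp 3 K) := Cfsg.Agent.KFacts.RgdFiltClass.hasFilt_of_PSp
    ⟨K, inferInstance, inferInstance, inferInstance, 3, by omega, by omega, ⟨MulEquiv.refl _⟩⟩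
  have h1 : 10800 * Nat.card Q ≤ 800 * Nat.card A ^ 4 := by
    refine card_own_four (p := 2) b.simple b.ept hg hsoc hL hLn hF ?_ ?_ (clsLe_gal 2) ?_
    · intro h
      have h2 := Nat.le_of_dvd (by norm_num) (h.trans hd)
      rw [hc] at h2
      omega
    · intro s hs h5 h
      have h2 : s ^ 2 ∣ (2 ^ 9 * 3 ^ 4) * 35 := h.trans hd
      have h3 : Nat.Coprime (s ^ 2) (2 ^ 9 * 3 ^ 4) := by
        apply Nat.Coprime.mul_right
        · exact Nat.Coprime.pow _ _ ((Nat.coprime_primes hs Nat.prime_two).2 (by omega))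
        · exact Nat.Coprime.pow _ _ ((Nat.coprime_primes hs Nat.prime_three).2 (by omega))
      have h4 := h3.dvd_of_dvd_mul_left h2
      have h6 := Nat.le_of_dvd (by norm_num) h4
      have h7 : s < 6 := by nlinarith
      obtain rfl : s = 5 := by omega
      revert h4
      decide
    · have h2 : galSumNe 2 (Nat.card A) ≤ galSum (fam 4 3) := galSumNe_le (N := 9) (by rw [hfam]; norm_num) (by
        rw [hfam]; exact hd)
      refine (h2.trans (galSum_fam_four le_rfl)).trans ?_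
      have h3 := Nat.le_of_dvd Nat.card_pos hsoc.card_dvd
      rw [hc] at h3
      refine le_trans ?_ h3
      norm_num
  have h2 := b.ord_two h14
  have h3 : Nat.card A ^ 4 ≤ 1451520 ^ 4 := Nat.pow_le_pow_left hle 4
  norm_num at h2 h3
  omega

theorem two_pow_ge' {d : ℕ} (hd : 6 ≤ d) : 2 * d * (d - 1) ≤ 2 ^ d := by
  induction d, hd using Nat.le_induction with
  | base => norm_num
  | succ d hd ih =>
    obtain ⟨t, rfl⟩ : ∃ t, d = t + 6 := ⟨d - 6, by omega⟩
    rw [pow_succ]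
    have e1 : t + 6 - 1 = t + 5 := rfl
    have e2 : t + 6 + 1 - 1 = t + 6 := rfl
    rw [e1] at ih
    rw [e2]
    nlinarith

theorem num_ge {d : ℕ} (hd : 6 ≤ d) : (4 + d) * (2 * d ^ 2 + d) ≤ 2 * d * (d - 1) * (2 * d * (d - 1) - 1) / 2 := by
  obtain ⟨t, rfl⟩ : ∃ t, d = t + 6 := ⟨d - 6, by omega⟩
  have e1 : t + 6 - 1 = t + 5 := rfl
  rw [e1]
  have e2 : 2 * (t + 6) * (t + 5) * (2 * (t + 6) * (t + 5) - 1) / 2 = (t + 6) * (t + 5) * (2 * (t + 6) * (t + 5) - 1) := by
    rw [mul_assoc 2 (t + 6) (t + 5), mul_assoc 2]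
    exact Nat.mul_div_cancel_left _ (by norm_num)
  rw [e2]
  obtain ⟨y, hy⟩ : ∃ y, 2 * (t + 6) * (t + 5) = y + 1 := ⟨2 * (t + 6) * (t + 5) - 1, by
    have : 1 ≤ 2 * (t + 6) * (t + 5) := Nat.mul_pos (by omega) (by omega)
    omega⟩
  rw [hy, Nat.add_sub_cancel]
  have h1 : (4 + (t + 6)) * (2 * (t + 6) ^ 2 + (t + 6)) = (t + 6) * ((t + 10) * (2 * t + 13)) := by ring
  rw [h1, mul_assoc]
  apply Nat.mul_le_mul_left
  nlinarith

/-- **Socle `PSp_2d(2)`.** -/
theorem own_psp_two (hg : TwoGen.{0}) (h16 : HTwo) (b : Big A Γ S P) {K : Type} [Field K] [Fintype K]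
    (hK : Fintype.card K = 2) {d : ℕ} (hd : 3 ≤ d) (hc : ringChar F = ringChar K) (e : socle P ≃* PSp d K) :
    False := by
  have : Fact (Nat.Prime 2) := ⟨Nat.prime_two⟩
  have hK2 := charP_two hK
  have hF2 : CharP F 2 := by
    have h1 : ringChar K = 2 := ringChar.eq K 2
    rw [← h1, ← hc]
    exact ringChar.charP F
  have hC := Cfsg.Agent.H915.LD.core_of_residual b.core
  have hKF : Nat.card K = Nat.card F := by
    obtain ⟨j, hj, h⟩ := Cfsg.Agent.H650.Ppd.exists_card (K := K) 2 hC (by omega : 0 < d) (Or.inl hd) e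
    rw [Nat.card_eq_fintype_card, Nat.card_eq_fintype_card, hK] at h
    have h1 : Fintype.card F ∣ 2 := by rw [← h]; exact dvd_pow_self _ (by omega)
    have h2 := b.two_le
    have h3 := Nat.le_of_dvd (by norm_num) h1
    rw [Nat.card_eq_fintype_card, Nat.card_eq_fintype_card, hK]
    omega
  have hF : Fintype.card F = 2 := by
    rw [Nat.card_eq_fintype_card, Nat.card_eq_fintype_card, hK] at hKF
    exact hKF.symm
  rcases dims hC hd e hKF b.thirteen with h | ⟨rfl, h⟩ | ⟨rfl, h | h⟩ | ⟨h5, h⟩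
  · exact nat_false b (by omega) h
  · exact three_false b hg hK e h
  · exact h16 b K hK hF h ⟨e⟩
  · exact ub_false b hg hK (by norm_num) e (j := 1) le_rfl (by norm_num) h (by norm_num)
  · rcases Nat.lt_or_ge d 6 with h6 | h6
    · obtain rfl : d = 5 := by omega
      have h7 : 32 ≤ Fintype.card ι := by
        rcases h with h | h
        · omega
        · exact h
      exact ub_false b hg hK (by norm_num) e (j := 1) le_rfl (by norm_num) h7 (by norm_num)
    · have h7 : 2 * d * (d - 1) ≤ Fintype.card ι := by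
        rcases h with h | h
        · exact h
        · exact (two_pow_ge' h6).trans h
      refine ub_false b hg hK hd e (j := d) (by omega) ?_ h7 (num_ge h6)
      have h8 : ∀ d, 2 * d ^ 2 + d ≤ 5 * 60 ^ d := by
        intro d
        induction d with
        | zero => norm_num
        | succ d ih => rw [pow_succ 60]; nlinarith [Nat.one_le_pow d 60 (by norm_num)]
      exact h8 d

end big

end Cfsg.Agent.H532.EP
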